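import Mathlib
import Cfsg.Prelude.Def_Perm
import Cfsg.Prelude.Def_Solvable
import Cfsg.Prelude.Def_Transfer
import Cfsg.Prelude.Def_CaseTheorems

/-!
# S4025 farm (architect helper25): definitions

`Setting p n Q V`: the abstract situation reached after Part I (`Q = N/O_{p'}(N)`, `V` the image
of the Sylow subgroup `P`).

`GammaL1 F`: the group of all permutations `x ↦ a * φ x` of a field `F` (`a` a unit, `φ` a field
automorphism), i.e. the stabiliser of `0` in `Cfsg.semiaffineGroup F`.

`Bridge V F e`: `e : V → F` is a bijection turning the multiplication of `V` into the addition of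
`F` such that conjugation by any `g : Q` becomes a map `x ↦ a * σ x`.
-/

set_option autoImplicit false

namespace Cfsg.Agent.Lib.Helper25.HS

/-- The abstract setting: `V` is a normal elementary abelian subgroup of order `p ^ n` of the finite
solvable group `Q`, self-centralising, of index prime to `p`, and `Q` permutes transitively (by
conjugation) the subgroups of `V` of any given order. -/
structure Setting (p n : ℕ) (Q : Type*) [Group Q] (V : Subgroup Q) : Prop where
  fin : Finite Q
  normal : V.Normal
  comm : ∀ a ∈ V, ∀ b ∈ V, a * b = b * a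
  exp : ∀ a ∈ V, a ^ p = 1
  card : Nat.card V = p ^ n
  cent : ∀ x : Q, (∀ v ∈ V, x * v = v * x) → x ∈ V
  cop : (V.index).Coprime p
  solv : Group.IsSolvable Q
  trans : ∀ A B : Subgroup Q, A ≤ V → B ≤ V → Nat.card A = Nat.card B →
    ∃ g : Q, B = A.map (MulAut.conj g).toMonoidHom

/-- The group `ΓL₁(F)` of all permutations `x ↦ a * φ x` of `F`. -/
def GammaL1 (F : Type*) [Field F] : Subgroup (Equiv.Perm F) where
  carrier := {σ | ∃ a : Fˣ, ∃ φ : F ≃+* F, ∀ x, σ x = (a : F) * φ x}
  one_mem' := ⟨1, RingEquiv.refl F, fun x => by simp⟩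
  mul_mem' := by
    rintro σ τ ⟨a, φ, hσ⟩ ⟨c, ψ, hτ⟩
    refine ⟨a * Units.map (φ : F →* F) c, ψ.trans φ, fun x => ?_⟩
    simp only [Equiv.Perm.coe_mul, Function.comp_apply, hτ, hσ, Units.val_mul, Units.coe_map,
      MonoidHom.coe_coe, RingEquiv.coe_trans, map_mul, mul_assoc]
  inv_mem' := by
    rintro σ ⟨a, φ, hσ⟩
    refine ⟨Units.map (φ.symm : F →* F) a⁻¹, φ.symm, fun x => ?_⟩
    apply σ.injective
    rw [Equiv.Perm.inv_def, Equiv.apply_symm_apply, hσ]
    simp only [Units.coe_map, MonoidHom.coe_coe, ← map_mul,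
      RingEquiv.apply_symm_apply, ← mul_assoc, Units.mul_inv, one_mul]

/-- `e : V → F` is a bijection turning the multiplication of `V` into the addition of the field
`F`, such that conjugation by any `g : Q` becomes a map of the form `x ↦ a * σ x`. -/
def Bridge {Q : Type*} [Group Q] (V : Subgroup Q) [V.Normal] (F : Type*) [Field F]
    (e : ↥V → F) : Prop :=
  Function.Bijective e ∧ (∀ u v : ↥V, e (u * v) = e u + e v) ∧
    ∀ g : Q, ∃ (a : F) (σ : F ≃+* F), ∀ v : ↥V, e (MulAut.conjNormal g v) = a * σ (e v)

end Cfsg.Agent.Lib.Helper25.HS
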