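import Mathlib
import Cfsg.Agent.Lib.Helper25.HS.Defs

/-!
# S4025 farm, leaf PII_AffineOfCard: a subgroup of `AΓL₁(F)` of order `|AGL₁(F)|` prime to `|Aut F|`
is `AGL₁(F)`

RECIPE. `Cfsg.affineGroup F ≤ Cfsg.semiaffineGroup F` (take `φ = RingEquiv.refl F`).  Define
`θ : Cfsg.semiaffineGroup F →* RingAut F` sending `x ↦ a * φ x + b` to `φ` (well defined:
`b = σ 0`, `a = σ 1 - σ 0`, `φ x = a⁻¹ * (σ x - b)`; multiplicative since
`(σ τ) x = a * φ c * (φ ∘ ψ) x + ...` and the product of `RingAut F` is composition); its kernel is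
`(Cfsg.affineGroup F).subgroupOf (Cfsg.semiaffineGroup F)`.  `Nat.card (S.map θ)` divides both
`Nat.card S` and `Nat.card (F ≃+* F)`, so it is `1` and `S ≤ ker θ`; the two have the same order
(`Nat.card (A.subgroupOf B) = Nat.card A` for `A ≤ B`), so `S = ker θ ≃* Cfsg.affineGroup F`
(`Subgroup.subgroupOfEquivOfLe`).
-/

set_option autoImplicit false

namespace Cfsg.Agent.Lib.Helper25.HS

namespace PII_AffineOfCard

/-- powers of a semi-affine map are semi-affine with the power of the automorphism -/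
theorem pow_form {R : Type*} [Field R] (σ : Equiv.Perm R) (a b : R) (φ : RingAut R)
    (hσ : ∀ x, σ x = a * φ x + b) (k : ℕ) :
    ∃ a' b' : R, ∀ x, (σ ^ k) x = a' * (φ ^ k) x + b' := by
  induction k with
  | zero => exact ⟨1, 0, fun x => by simp⟩
  | succ k ih =>
    obtain ⟨a', b', h⟩ := ih
    refine ⟨a' * (φ ^ k) a, a' * (φ ^ k) b + b', fun x => ?_⟩
    rw [pow_succ, Equiv.Perm.mul_apply, h, hσ, pow_succ, RingAut.mul_apply, map_add, map_mul]
    ring

/-- a semi-affine map of order prime to `|Aut F|` is affine -/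
theorem mem_affine_of_pow {F : Type*} [Field F] [Finite F] (σ : Equiv.Perm F)
    (hσ : σ ∈ Cfsg.semiaffineGroup F) (N : ℕ) (hN : σ ^ N = 1)
    (hcop : N.Coprime (Nat.card (F ≃+* F))) : σ ∈ Cfsg.affineGroup F := by
  obtain ⟨a, b, φ, hσ⟩ := hσ
  have hφM : (φ : RingAut F) ^ (Nat.card (F ≃+* F)) = 1 := by
    have h := pow_card_eq_one' (G := RingAut F) (x := φ)
    exact h
  obtain ⟨a', b', h⟩ := pow_form σ a b φ hσ N
  rw [hN] at h
  have hb : b' = 0 := by
    have := h 0
    simpa using this.symm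
  have ha : a' = 1 := by
    have := h 1
    rw [hb] at this
    simpa using this.symm
  have hφN : (φ : RingAut F) ^ N = 1 := by
    apply RingEquiv.ext
    intro x
    have := h x
    rw [ha, hb, one_mul, add_zero] at this
    simpa using this.symm
  have hφ : (φ : RingAut F) = 1 := by
    have h1 : orderOf (φ : RingAut F) ∣ N := orderOf_dvd_of_pow_eq_one hφN
    have h2 : orderOf (φ : RingAut F) ∣ Nat.card (F ≃+* F) := orderOf_dvd_of_pow_eq_one hφM
    have h3 : orderOf (φ : RingAut F) ∣ 1 := by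
      have := Nat.dvd_gcd h1 h2
      rwa [Nat.Coprime.gcd_eq_one hcop] at this
    exact orderOf_eq_one_iff.mp (Nat.dvd_one.mp h3)
  refine ⟨a, b, fun x => ?_⟩
  rw [hσ x]
  have : φ x = x := by
    have := congrArg (fun ψ : RingAut F => ψ x) hφ
    simpa using this
  rw [this]

end PII_AffineOfCard

theorem affine_of_card {F : Type*} [Field F] [Finite F]
    (S : Subgroup ↥(Cfsg.semiaffineGroup F))
    (hS : Nat.card S = Nat.card (Cfsg.affineGroup F))
    (hcop : (Nat.card (Cfsg.affineGroup F)).Coprime (Nat.card (F ≃+* F))) :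
    Nonempty (↥S ≃* ↥(Cfsg.affineGroup F)) := by
  have hinj : Function.Injective (Cfsg.semiaffineGroup F).subtype := Subtype.val_injective
  have hcard : Nat.card ↥(S.map (Cfsg.semiaffineGroup F).subtype) = Nat.card ↥S :=
    Nat.card_congr (S.equivMapOfInjective _ hinj).symm.toEquiv
  have hle : S.map (Cfsg.semiaffineGroup F).subtype ≤ Cfsg.affineGroup F := by
    rintro σ ⟨s, hs, rfl⟩
    apply PII_AffineOfCard.mem_affine_of_pow _ s.2 (Nat.card (Cfsg.affineGroup F)) _ hcop
    have h := pow_card_eq_one' (G := ↥S) (x := ⟨s, hs⟩)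
    rw [hS] at h
    have h2 := congrArg (fun t : ↥S => ((t : ↥(Cfsg.semiaffineGroup F)) : Equiv.Perm F)) h
    simpa using h2
  have heq : S.map (Cfsg.semiaffineGroup F).subtype = Cfsg.affineGroup F :=
    Subgroup.eq_of_le_of_card_ge hle (by rw [hcard, hS])
  exact ⟨(S.equivMapOfInjective _ hinj).trans (MulEquiv.subgroupCongr heq)⟩

end Cfsg.Agent.Lib.Helper25.HS
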