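import Mathlib

/-!
# S4025 farm, leaf PII_ArithExc: the exceptional orders of Huppert's theorem with `n ≥ 3`

RECIPE. `9 = 3 ^ 2`, `25 = 5 ^ 2`, `49 = 7 ^ 2`, `121 = 11 ^ 2`, `529 = 23 ^ 2`, `81 = 3 ^ 4`; if
`p ^ n = q ^ k` with `p, q` prime then `p = q` and `n = k` (`Nat.Prime.eq_of_dvd_of_prime` after
`Nat.Prime.dvd_of_dvd_pow`, then `Nat.pow_right_injective`).
-/

set_option autoImplicit false

namespace Cfsg.Agent.Lib.Helper25.HS

theorem arith_exc (p n : ℕ) (hp : p.Prime) (hn : 3 ≤ n)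
    (h : p ^ n ∈ ({9, 25, 49, 121, 529, 81} : Set ℕ)) : p = 3 ∧ n = 4 := by
  have hn1 : n ≠ 0 := by omega
  have key : ∀ q k : ℕ, q.Prime → p ^ n = q ^ k → p = q ∧ n = k := by
    intro q k hq hEq
    have h1 : p ∣ q ^ k := by rw [← hEq]; exact dvd_pow_self p hn1
    have h2 : p = q := (Nat.prime_dvd_prime_iff_eq hp hq).1 (hp.dvd_of_dvd_pow h1)
    subst h2
    exact ⟨rfl, Nat.pow_right_injective hp.two_le hEq⟩
  simp only [Set.mem_insert_iff, Set.mem_singleton_iff] at h
  rcases h with h | h | h | h | h | h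
  · have := (key 3 2 (by norm_num) (by rw [h]; norm_num)).2; omega
  · have := (key 5 2 (by norm_num) (by rw [h]; norm_num)).2; omega
  · have := (key 7 2 (by norm_num) (by rw [h]; norm_num)).2; omega
  · have := (key 11 2 (by norm_num) (by rw [h]; norm_num)).2; omega
  · have := (key 23 2 (by norm_num) (by rw [h]; norm_num)).2; omega
  · exact key 3 4 (by norm_num) (by rw [h]; norm_num)

end Cfsg.Agent.Lib.Helper25.HS
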