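import Mathlib

/-!
# S4025 farm, leaf PII_ArithMain: the arithmetic of the plane count (pure ℕ arithmetic)

RECIPE. `p ^ 2 - p = p * (p - 1)` and `p ^ n - p = p * (p ^ (n - 1) - 1)`, so `hL` gives
`L * (p ^ 2 - 1) * (p - 1) = (p ^ n - 1) * (p ^ (n - 1) - 1)` (cancel `p`).  Multiplying `hdvd` by
`p ^ 2 - 1`: `(p ^ n - 1) * (p ^ (n - 1) - 1) ∣ n * (p ^ n - 1) * (p ^ 2 - 1)`, and cancelling
`p ^ n - 1 > 0`: `p ^ (n - 1) - 1 ∣ n * (p ^ 2 - 1)`.
* `n = 4`: `p ^ 3 - 1 = (p - 1) * (p ^ 2 + p + 1)` and `4 * (p ^ 2 - 1) = 4 * (p - 1) * (p + 1)`, so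
  `p ^ 2 + p + 1 ∣ 4 * (p + 1)`; `p ^ 2 + p + 1` is odd, so it divides `p + 1 < p ^ 2 + p + 1`: absurd.
* `n = 5`: `p ^ 4 - 1 = (p ^ 2 - 1) * (p ^ 2 + 1) ∣ 5 * (p ^ 2 - 1)` gives `p ^ 2 + 1 ∣ 5`, so `p = 2`.
* `n ≥ 6`: `p ^ (n - 1) - 1 ≤ n * (p ^ 2 - 1) < n * p ^ 2` gives `p ^ (n - 3) ≤ n`, impossible as
  `2 ^ (n - 3) > n` for `n ≥ 6`.
-/

set_option autoImplicit false

namespace Cfsg.Agent.Lib.Helper25.HS

namespace ArithMainAux

theorem lt_two_pow_add (k : ℕ) (hk : 3 ≤ k) : k + 3 < 2 ^ k := by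
  induction k, hk using Nat.le_induction with
  | base => norm_num
  | succ k hk ih =>
    rw [pow_succ]
    omega

end ArithMainAux

theorem arith_main (p n L : ℕ) (hp : p.Prime) (hn : 3 ≤ n)
    (hL : L * ((p ^ 2 - 1) * (p ^ 2 - p)) = (p ^ n - 1) * (p ^ n - p))
    (hdvd : L * (p - 1) ∣ n * (p ^ n - 1)) :
    n = 3 ∨ (n = 5 ∧ p = 2) := by
  have hp2 : 2 ≤ p := hp.two_le
  obtain ⟨P1, hP1⟩ : ∃ P1, p = P1 + 1 := ⟨p - 1, by omega⟩
  have hP1pos : 0 < P1 := by omega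
  -- Q = p^(n-1) = A + 1
  have hQpos : 0 < p ^ (n - 1) := Nat.pos_of_ne_zero (pow_ne_zero _ (by omega))
  obtain ⟨A, hA⟩ : ∃ A, p ^ (n - 1) = A + 1 := ⟨p ^ (n - 1) - 1, by omega⟩
  have hpn : p ^ n = p * p ^ (n - 1) := by
    rw [← pow_succ']
    congr 1
    omega
  -- rewrite the subtractions
  have e1 : p - 1 = P1 := by omega
  have e2 : p ^ 2 - 1 = P1 * (p + 1) := by
    have : p ^ 2 = P1 * (p + 1) + 1 := by rw [hP1]; ring
    omega
  have e3 : p ^ 2 - p = p * P1 := by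
    have : p ^ 2 = p * P1 + p := by rw [hP1]; ring
    omega
  have e4 : p ^ n - p = p * A := by
    have : p ^ n = p * A + p := by rw [hpn, hA]; ring
    omega
  have hBpos : 0 < p ^ n - 1 := by
    have : 2 ≤ p ^ n := by
      calc 2 ≤ p := hp2
        _ = p ^ 1 := (pow_one p).symm
        _ ≤ p ^ n := Nat.pow_le_pow_right (by omega) (by omega)
    omega
  set B := p ^ n - 1 with hB
  rw [e2, e3, e4] at hL
  rw [e1] at hdvd
  -- cancel p
  have hL' : L * P1 * (P1 * (p + 1)) = B * A := by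
    have h1 : p * (L * P1 * (P1 * (p + 1))) = p * (B * A) := by
      calc p * (L * P1 * (P1 * (p + 1))) = L * (P1 * (p + 1) * (p * P1)) := by ring
        _ = B * (p * A) := hL
        _ = p * (B * A) := by ring
    exact Nat.eq_of_mul_eq_mul_left (by omega) h1
  have hkey : A ∣ n * (P1 * (p + 1)) := by
    have h1 : L * P1 * (P1 * (p + 1)) ∣ n * B * (P1 * (p + 1)) := Nat.mul_dvd_mul_right hdvd _
    rw [hL'] at h1
    have h2 : B * A ∣ B * (n * (P1 * (p + 1))) := by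
      have : n * B * (P1 * (p + 1)) = B * (n * (P1 * (p + 1))) := by ring
      rwa [this] at h1
    exact (Nat.mul_dvd_mul_iff_left hBpos).mp h2
  have hnpos : 0 < n * (P1 * (p + 1)) := by positivity
  -- case analysis on n
  rcases Nat.lt_or_ge n 6 with hn6 | hn6
  · interval_cases n
    · left; rfl
    · -- n = 4
      exfalso
      have hA4 : A = P1 * (p ^ 2 + p + 1) := by
        have h1 : p ^ 3 = A + 1 := hA
        have h2 : p ^ 3 = P1 * (p ^ 2 + p + 1) + 1 := by rw [hP1]; ring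
        omega
      rw [hA4] at hkey
      have h3 : P1 * (p ^ 2 + p + 1) ∣ P1 * (4 * (p + 1)) := by
        have : 4 * (P1 * (p + 1)) = P1 * (4 * (p + 1)) := by ring
        rwa [this] at hkey
      have h4 : p ^ 2 + p + 1 ∣ 4 * (p + 1) := (Nat.mul_dvd_mul_iff_left hP1pos).mp h3
      have hodd : (p ^ 2 + p + 1).Coprime 4 := by
        have h5 : (p ^ 2 + p + 1) % 2 = 1 := by
          have : p ^ 2 + p = p * (p + 1) := by ring
          have h6 : (p * (p + 1)) % 2 = 0 := Nat.even_iff.mp (Nat.even_mul_succ_self p)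
          omega
        have h7 : (p ^ 2 + p + 1).Coprime 2 := by
          rw [Nat.coprime_comm, Nat.Prime.coprime_iff_not_dvd Nat.prime_two]
          omega
        have : (4 : ℕ) = 2 ^ 2 := by norm_num
        rw [this]
        exact Nat.Coprime.pow_right 2 h7
      have h8 : p ^ 2 + p + 1 ∣ p + 1 := hodd.dvd_of_dvd_mul_left h4
      have h9 := Nat.le_of_dvd (by omega) h8
      nlinarith
    · -- n = 5
      right
      refine ⟨rfl, ?_⟩
      have hA5 : A = P1 * (p + 1) * (p ^ 2 + 1) := by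
        have h1 : p ^ 4 = A + 1 := hA
        have h2 : p ^ 4 = P1 * (p + 1) * (p ^ 2 + 1) + 1 := by rw [hP1]; ring
        omega
      rw [hA5] at hkey
      have h3 : P1 * (p + 1) * (p ^ 2 + 1) ∣ P1 * (p + 1) * 5 := by
        have : 5 * (P1 * (p + 1)) = P1 * (p + 1) * 5 := by ring
        rwa [this] at hkey
      have h4 : p ^ 2 + 1 ∣ 5 := (Nat.mul_dvd_mul_iff_left (by positivity)).mp h3
      have h5 := Nat.le_of_dvd (by norm_num) h4
      nlinarith
  · -- n ≥ 6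
    exfalso
    have h1 : A ≤ n * (P1 * (p + 1)) := Nat.le_of_dvd hnpos hkey
    have h2 : p ^ (n - 1) = p ^ (n - 3) * p ^ 2 := by
      rw [← pow_add]
      congr 1
      omega
    have h3 : P1 * (p + 1) + 1 = p ^ 2 := by rw [hP1]; ring
    -- p^(n-3) ≤ n
    have h4 : p ^ (n - 3) ≤ n := by
      by_contra hcon
      push Not at hcon
      have h5 : (n + 1) * p ^ 2 ≤ p ^ (n - 3) * p ^ 2 := Nat.mul_le_mul_right _ hcon
      have h6 : p ^ (n - 3) * p ^ 2 = A + 1 := by rw [← h2, hA]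
      have h7 : n * (P1 * (p + 1)) + n = n * p ^ 2 := by rw [← h3]; ring
      nlinarith
    have h5 : 2 ^ (n - 3) ≤ p ^ (n - 3) := Nat.pow_le_pow_left hp2 _
    have h6 := ArithMainAux.lt_two_pow_add (n - 3) (by omega)
    omega

end Cfsg.Agent.Lib.Helper25.HS
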