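import Mathlib
import Cfsg.Agent.Lib.Helper25.HS.Defs

/-!
# S4025 farm, leaf PII_BridgeCount: a bridge matches subgroups of `V` with additive subgroups of `F`

RECIPE. Explicit equivalence: `A ↦ {x : F | ∃ v : V, (v : Q) ∈ A ∧ e v = x}` (an `AddSubgroup` since
`e` is additive and `A ≤ V` is a subgroup), inverse `B ↦ {q : Q | ∃ h : q ∈ V, e ⟨q, h⟩ ∈ B}`; `e`
restricts to a bijection between `A` and its image, so the orders agree.  Then `Nat.card_congr`.
-/

set_option autoImplicit false

namespace Cfsg.Agent.Lib.Helper25.HS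

theorem bridge_count {Q : Type*} [Group Q] {V : Subgroup Q} [V.Normal]
    {F : Type*} [Field F] (e : ↥V → F) (he : Bridge V F e) (m : ℕ) :
    Nat.card {A : Subgroup Q // A ≤ V ∧ Nat.card A = m} =
      Nat.card {A : AddSubgroup F // Nat.card A = m} := by
  sorry

end Cfsg.Agent.Lib.Helper25.HS
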