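import Mathlib
import Cfsg.Agent.Lib.Helper25.HS.Defs
import Cfsg.Agent.Lib.Helper13.SemiaffineCard

/-!
# S4025 farm, leaf PII_CardAffine: `|AGL₁(F)| = |F| * (|F| - 1)`

RECIPE. The map `F × Fˣ → Cfsg.affineGroup F`, `(b, a) ↦ (x ↦ a * x + b)` (a permutation with
inverse `y ↦ a⁻¹ * (y - b)`) is surjective by definition and injective: `b = σ 0`,
`a = σ 1 - σ 0`.  `Nat.card Fˣ = Nat.card F - 1` (`Nat.card_units`).
-/

set_option autoImplicit false

namespace Cfsg.Agent.Lib.Helper25.HS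

theorem card_affine (F : Type*) [Field F] [Finite F] :
    Nat.card (Cfsg.affineGroup F) = Nat.card F * (Nat.card F - 1) := by
  exact Cfsg.Agent.Lib.Helper13.SemiaffineCard.card_affineGroup F

end Cfsg.Agent.Lib.Helper25.HS
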