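import Mathlib
import Cfsg.Agent.Lib.Helper13.SemiaffineCard
import Cfsg.Agent.Lib.Helper25.HS.Defs

/-!
# S4025 farm, leaf PII_CardAut: `GaloisField p n` has exactly `n` ring automorphisms

RECIPE. `GaloisField p n` is Galois over `ZMod p` (instance in
`Mathlib/FieldTheory/Finite/GaloisField.lean`), so
`Nat.card (GaloisField p n ≃ₐ[ZMod p] GaloisField p n) = Module.finrank (ZMod p) (GaloisField p n) = n`
(`IsGalois.card_aut_eq_finrank`, `GaloisField.finrank p hn`).  Every ring automorphism is
`ZMod p`-linear (it fixes the image of `ZMod p`: `map_natCast`/`RingHom.ext_zmod`,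
`Subsingleton (ZMod p →+* _)`), which gives an equivalence between `≃+*` and `≃ₐ[ZMod p]`
(`AlgEquiv.toRingEquiv` one way; the other way build `AlgEquiv` with `commutes'` from the
subsingleton of ring homs `ZMod p →+* GaloisField p n`).
-/

set_option autoImplicit false

namespace Cfsg.Agent.Lib.Helper25.HS

theorem card_aut_galois (p n : ℕ) [Fact p.Prime] (hn : n ≠ 0) :
    Nat.card (GaloisField p n ≃+* GaloisField p n) = n := by
  exact Cfsg.Agent.Lib.Helper13.SemiaffineCard.card_ringAut_galoisField p n hn

end Cfsg.Agent.Lib.Helper25.HS
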