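import Mathlib
import Cfsg.Agent.Lib.Helper13.SemiaffineCard
import Cfsg.Agent.Lib.Helper25.HS.Defs

/-!
# S4025 farm, leaf PII_CardGammaL1: `|ΓL₁(F)| = (|F| - 1) * |Aut F|`

RECIPE. The map `Fˣ × (F ≃+* F) → GammaL1 F`, `(a, φ) ↦ (x ↦ a * φ x)` (a permutation with inverse
`y ↦ φ.symm (a⁻¹ * y)`) is surjective by definition and injective: `a = σ 1` (as `φ 1 = 1`) and
`φ x = a⁻¹ * σ x`.  `Nat.card Fˣ = Nat.card F - 1` (`Nat.card_units`).
-/

set_option autoImplicit false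

namespace Cfsg.Agent.Lib.Helper25.HS

namespace PII_CardGammaL1_h13

open Cfsg.Agent.Lib.Helper13.SemiaffineCard

/-- the parametrization of `ΓL₁(F)` by pairs -/
noncomputable def gammaEquiv (F : Type*) [Field F] : (Fˣ × (F ≃+* F)) ≃ ↥(GammaL1 F) :=
  Equiv.ofBijective (fun t => ⟨semiPerm t.1 0 t.2, ⟨t.1, t.2, fun x => by
    rw [semiPerm_apply, add_zero]⟩⟩) (by
    constructor
    · rintro ⟨a, φ⟩ ⟨a', φ'⟩ h
      have h' : semiPerm a 0 φ = semiPerm a' 0 φ' := congrArg Subtype.val h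
      obtain ⟨h1, -, h3⟩ := semiPerm_injective h'
      rw [h1, h3]
    · rintro ⟨σ, a, φ, hσ⟩
      refine ⟨(a, φ), ?_⟩
      apply Subtype.ext
      apply Equiv.ext
      intro x
      change semiPerm a 0 φ x = σ x
      rw [semiPerm_apply, add_zero, hσ])

end PII_CardGammaL1_h13

theorem card_gammaL1 (F : Type*) [Field F] [Finite F] :
    Nat.card (GammaL1 F) = (Nat.card F - 1) * Nat.card (F ≃+* F) := by
  rw [← Nat.card_congr (PII_CardGammaL1_h13.gammaEquiv F), Nat.card_prod, Nat.card_units]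

end Cfsg.Agent.Lib.Helper25.HS
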