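import Mathlib
import Cfsg.Agent.Lib.Helper25.HS.Defs
import Cfsg.Agent.Lib.Helper13.SemiaffineCard

/-!
# S4025 farm, leaf PII_CardSemiaffine: `|AΓL₁(F)| = |F| * (|F| - 1) * |Aut F|`

RECIPE. The map `F × Fˣ × (F ≃+* F) → Cfsg.semiaffineGroup F`, `(b, a, φ) ↦ (x ↦ a * φ x + b)` (a
permutation with inverse `y ↦ φ.symm (a⁻¹ * (y - b))`) is surjective by definition and injective:
`b = σ 0`, `a = σ 1 - σ 0`, `φ x = a⁻¹ * (σ x - b)`.  `Nat.card Fˣ = Nat.card F - 1` (`Nat.card_units`).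
-/

set_option autoImplicit false

namespace Cfsg.Agent.Lib.Helper25.HS

theorem card_semiaffine (F : Type*) [Field F] [Finite F] :
    Nat.card (Cfsg.semiaffineGroup F) = Nat.card F * (Nat.card F - 1) * Nat.card (F ≃+* F) := by
  rw [Cfsg.Agent.Lib.Helper13.SemiaffineCard.card_semiaffineGroup F, mul_comm]

end Cfsg.Agent.Lib.Helper25.HS
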