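import Mathlib
import Cfsg.Agent.Lib.Helper25.HS.Defs

/-!
# S4025 farm, leaf PII_CountLines: `V` has `(p ^ n - 1) / (p - 1)` subgroups of order `p`

RECIPE. The map `{v : V // v ≠ 1} → {A : Subgroup Q // A ≤ V ∧ Nat.card A = p}`, `v ↦ zpowers v`
(order `p` since `v ^ p = 1`, `v ≠ 1`) is onto (a group of prime order is generated by any
nonidentity element) and every fibre has exactly `p - 1` elements (the nonidentity elements of `A`).
So `p ^ n - 1 = Nat.card {v // v ≠ 1} = (number of such A) * (p - 1)` (`Nat.card_sigma` over the fibres,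
or `Finset.card_eq_sum_card_fiberwise`).
-/

set_option autoImplicit false

namespace Cfsg.Agent.Lib.Helper25.HS

theorem count_lines {p n : ℕ} [Fact p.Prime] {Q : Type*} [Group Q] {V : Subgroup Q}
    (hS : Setting p n Q V) :
    Nat.card {A : Subgroup Q // A ≤ V ∧ Nat.card A = p} * (p - 1) = p ^ n - 1 := by
  sorry

end Cfsg.Agent.Lib.Helper25.HS
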