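import Mathlib
import Cfsg.Agent.Lib.Helper25.HS.Defs

/-!
# S4025 farm, leaf PII_PairCount: ordered "independent" pairs in a group of exponent `p`

RECIPE. For `u ≠ 1` the subgroup `zpowers u` has order `p` (`orderOf u = p` as `u ^ p = 1`, `u ≠ 1`,
`p` prime; `Nat.card_zpowers`).  So the number of pairs is
`∑_{u ≠ 1} (Nat.card E - p) = (p ^ m - 1) * (p ^ m - p)`: use a sigma-type equivalence
`{uv // uv.1 ≠ 1 ∧ uv.2 ∉ zpowers uv.1} ≃ Σ u : {u // u ≠ 1}, {v // v ∉ zpowers u}` and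
`Nat.card_sigma`/`Finset.sum_const`, with `Nat.card {v // v ∉ H} = Nat.card E - Nat.card H`.
-/

set_option autoImplicit false

namespace Cfsg.Agent.Lib.Helper25.HS

theorem pair_count {E : Type*} [Group E] [Finite E] (p m : ℕ) [Fact p.Prime]
    (hexp : ∀ x : E, x ^ p = 1) (hcard : Nat.card E = p ^ m) :
    Nat.card {uv : E × E // uv.1 ≠ 1 ∧ uv.2 ∉ Subgroup.zpowers uv.1} =
      (p ^ m - 1) * (p ^ m - p) := by
  sorry

end Cfsg.Agent.Lib.Helper25.HS
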