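import Mathlib
import Cfsg.Agent.Lib.Helper25.HS.Defs
import Cfsg.Agent.Lib.Helper25.HS.PII_PairCount

/-!
# S4025 farm, leaf PII_CountPlanes: the number of subgroups of order `p ^ 2` of `V`

RECIPE. Count `X := {uv : V × V // uv.1 ≠ 1 ∧ uv.2 ∉ zpowers uv.1}` in two ways.  By `pair_count`
(with `E = ↥V`, `m = n`) `Nat.card X = (p ^ n - 1) * (p ^ n - p)`.  On the other hand the map
`X → {A : Subgroup Q // A ≤ V ∧ Nat.card A = p ^ 2}`, `(u, v) ↦ (closure {u, v})` (or
`zpowers u ⊔ zpowers v`; its order is `p * p` because `zpowers u ⊓ zpowers v = ⊥`: `zpowers v` has prime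
order and is not contained in `zpowers u`; `V` is abelian so `Subgroup.card_sup...`/`card_mul`-type
lemmas for commuting or normal subgroups apply) has as fibre over `A` exactly the set of pairs
`{uv : A × A // uv.1 ≠ 1 ∧ uv.2 ∉ zpowers uv.1}` (a pair in `A` generates a subgroup of `A` of order
`p ^ 2`, i.e. `A` itself), which by `pair_count` (with `E = ↥A`, `m = 2`) has
`(p ^ 2 - 1) * (p ^ 2 - p)` elements.
-/

set_option autoImplicit false

namespace Cfsg.Agent.Lib.Helper25.HS

theorem count_planes {p n : ℕ} [Fact p.Prime] {Q : Type*} [Group Q] {V : Subgroup Q}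
    (hS : Setting p n Q V) :
    Nat.card {A : Subgroup Q // A ≤ V ∧ Nat.card A = p ^ 2} * ((p ^ 2 - 1) * (p ^ 2 - p)) =
      (p ^ n - 1) * (p ^ n - p) := by
  sorry

end Cfsg.Agent.Lib.Helper25.HS
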