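import Mathlib
import Cfsg.Agent.Lib.Helper25.HS.Defs

/-!
# S4025 farm, leaf PII_Embed: `Q = V ⋊ H` embeds in the semi-affine group of `F`

RECIPE. `haveI := hS.fin`.  By Schur–Zassenhaus
(`Subgroup.exists_right_complement'_of_coprime`, `Nat.card V = p ^ n` and `hS.cop`) there is `H ≤ Q`
with `V.IsComplement' H`: every `x : Q` is uniquely `u * h` with `u ∈ V`, `h ∈ H`.  `Q` acts on the
cosets `Q ⧸ H`, and `v ↦ v H` is a bijection `V → Q ⧸ H`; transport the action to `F` through `e`: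
for `x = u * h` and `y = e v` one gets `x • y = e (u * (h * v * h⁻¹)) = e u + a_h * σ_h y`
(bridge: `e (h v h⁻¹) = a_h * σ_h (e v)`), which lies in `Cfsg.semiaffineGroup F` once `a_h ≠ 0`
(`a_h = 0` would make `e` vanish on all of `V`, contradicting injectivity, `Nat.card V = p ^ n > 1`).
(Equivalently define directly `f x := (y ↦ e u + a_h * σ_h y)` and check multiplicativity using
`(u h) (u' h') = (u * h u' h⁻¹) (h h')`.)
Injectivity: an `x` in the kernel fixes every coset `v H`, so the kernel `D` is a normal subgroup of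
`Q` contained in `H`; then `[D, V] ≤ D ⊓ V ≤ H ⊓ V = ⊥`, so `D ≤ C_Q(V) ≤ V` (`hS.cent`), so `D = ⊥`.
(Or directly: `f (u h) = 1` forces `e u = 0`, so `u = 1`, and `a_h * σ_h y = y` for all `y`, so `h`
centralises `V`, so `h ∈ V ⊓ H = ⊥`.)
-/

set_option autoImplicit false

namespace Cfsg.Agent.Lib.Helper25.HS

namespace EmbedAux

variable {Q : Type*} [Group Q] {V H : Subgroup Q}

/-- the element of `V` in the coset `g H` is characterised by lying in that coset -/
theorem leftQuotientEquiv_eq (hH : V.IsComplement' H) (g : Q) (w : ↥V)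
    (hw : (QuotientGroup.mk (w : Q) : Q ⧸ H) = QuotientGroup.mk g) :
    Subgroup.IsComplement.leftQuotientEquiv hH (QuotientGroup.mk g) = w := by
  have h1 : (QuotientGroup.mk
      ((Subgroup.IsComplement.leftQuotientEquiv hH (QuotientGroup.mk g) : ↥V) : Q) : Q ⧸ H) =
      QuotientGroup.mk g :=
    Subgroup.IsComplement.quotientGroupMk_leftQuotientEquiv hH (QuotientGroup.mk g)
  have h2 := QuotientGroup.eq.mp (h1.trans hw.symm)
  -- w'⁻¹ * w ∈ H ⊓ V = ⊥
  set w' : ↥V := Subgroup.IsComplement.leftQuotientEquiv hH (QuotientGroup.mk g) with hw'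
  have h3 : ((w' : Q))⁻¹ * (w : Q) ∈ V := V.mul_mem (V.inv_mem w'.2) w.2
  have h4 : ((w' : Q))⁻¹ * (w : Q) = 1 := by
    have := (Subgroup.disjoint_def.mp hH.disjoint) h3 h2
    exact this
  apply Subtype.ext
  calc (w' : Q) = (w' : Q) * (((w' : Q))⁻¹ * (w : Q)) := by rw [h4, mul_one]
    _ = (w : Q) := by group

end EmbedAux

theorem embed {p n : ℕ} [Fact p.Prime] {Q : Type*} [Group Q] {V : Subgroup Q} [V.Normal]
    (hS : Setting p n Q V) (hn : 1 ≤ n) {F : Type*} [Field F] (e : ↥V → F) (he : Bridge V F e) :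
    ∃ f : Q →* ↥(Cfsg.semiaffineGroup F), Function.Injective f := by
  haveI := hS.fin
  have hp : p.Prime := Fact.out
  have hcop : (Nat.card V).Coprime V.index := by
    rw [hS.card]; exact Nat.Coprime.pow_left n hS.cop.symm
  obtain ⟨H, hH⟩ := Subgroup.exists_right_complement'_of_coprime hcop
  obtain ⟨hebij, hadd, hconj⟩ := he
  have hdisj : ∀ c : Q, c ∈ V → c ∈ H → c = 1 := fun c h1 h2 =>
    (Subgroup.disjoint_def.mp hH.disjoint) h1 h2
  have hdec : ∀ x : Q, ∃ u ∈ V, ∃ h ∈ H, x = u * h := by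
    intro x
    obtain ⟨⟨u, h⟩, hx, -⟩ := (Subgroup.isComplement_iff_existsUnique.mp hH) x
    exact ⟨u.1, u.2, h.1, h.2, hx.symm⟩
  let β : Q ⧸ H ≃ ↥V := Subgroup.IsComplement.leftQuotientEquiv hH
  let E : Q ⧸ H ≃ F := β.trans (Equiv.ofBijective e hebij)
  let f₀ : Q →* Equiv.Perm F :=
    (E.permCongrHom).toMonoidHom.comp (MulAction.toPermHom Q (Q ⧸ H))
  have hf₀app : ∀ (x : Q) (y : F), f₀ x y = E (x • E.symm y) := fun x y => rfl
  have hβmk : ∀ v : ↥V, β (QuotientGroup.mk (v : Q)) = v := fun v =>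
    EmbedAux.leftQuotientEquiv_eq hH (v : Q) v rfl
  have hEsymm : ∀ v : ↥V, E.symm (e v) = QuotientGroup.mk (v : Q) := by
    intro v
    rw [Equiv.symm_apply_eq]
    show e v = e (β (QuotientGroup.mk (v : Q)))
    rw [hβmk]
  -- key formula
  have hkey : ∀ (u : Q) (hu : u ∈ V) (h : Q) (hh : h ∈ H) (v : ↥V),
      f₀ (u * h) (e v) = e (⟨u, hu⟩ * MulAut.conjNormal h v) := by
    intro u hu h hh v
    rw [hf₀app, hEsymm]
    show e (β ((u * h) • (QuotientGroup.mk (v : Q) : Q ⧸ H))) = _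
    congr 1
    rw [MulAction.Quotient.smul_mk, smul_eq_mul]
    apply EmbedAux.leftQuotientEquiv_eq hH
    rw [QuotientGroup.eq]
    have h1 : ((⟨u, hu⟩ * MulAut.conjNormal h v : ↥V) : Q) = u * (h * (v : Q) * h⁻¹) := by
      rw [Subgroup.coe_mul, MulAut.conjNormal_apply]
    rw [h1]
    have h2 : (u * (h * (v : Q) * h⁻¹))⁻¹ * (u * h * (v : Q)) = h := by group
    rw [h2]
    exact hh
  -- the scalar is nonzero
  have hne : ∀ (h : Q) (a : F) (σ : F ≃+* F),
      (∀ v : ↥V, e (MulAut.conjNormal h v) = a * σ (e v)) → a ≠ 0 := by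
    intro h a σ hσ ha
    have h0 : ∀ v : ↥V, e (MulAut.conjNormal h v) = 0 := by
      intro v; rw [hσ v, ha, zero_mul]
    have hsub : ∀ v w : ↥V, v = w := fun v w =>
      (MulAut.conjNormal h).injective (hebij.1 (by rw [h0 v, h0 w]))
    haveI : Subsingleton ↥V := ⟨hsub⟩
    have h1 : Nat.card ↥V ≤ 1 := Finite.card_le_one_iff_subsingleton.mpr inferInstance
    rw [hS.card] at h1
    have h2 : 1 < p ^ n := Nat.one_lt_pow (by omega) hp.one_lt
    omega
  have hf₀ : ∀ x : Q, f₀ x ∈ Cfsg.semiaffineGroup F := by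
    intro x
    obtain ⟨u, hu, h, hh, rfl⟩ := hdec x
    obtain ⟨a, σ, hσ⟩ := hconj h
    have ha := hne h a σ hσ
    refine ⟨Units.mk0 a ha, e ⟨u, hu⟩, σ, fun y => ?_⟩
    obtain ⟨v, rfl⟩ := hebij.2 y
    rw [hkey u hu h hh v, hadd, hσ v, Units.val_mk0, add_comm]
  refine ⟨f₀.codRestrict _ hf₀, ?_⟩
  rw [injective_iff_map_eq_one]
  intro x hx
  have hx₀ : f₀ x = 1 := congrArg Subtype.val hx
  have hfix : ∀ q : Q ⧸ H, x • q = q := by
    intro q
    have h1 := hf₀app x (E q)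
    rw [hx₀, Equiv.Perm.coe_one, id_eq, Equiv.symm_apply_apply] at h1
    exact (E.injective h1).symm
  have hxH : x ∈ H := by
    have h1 := hfix (QuotientGroup.mk (1 : Q))
    rw [MulAction.Quotient.smul_mk, smul_eq_mul, QuotientGroup.eq] at h1
    have h2 : (x * 1)⁻¹ * 1 = x⁻¹ := by group
    rw [h2] at h1
    exact (H.inv_mem_iff).mp h1
  have hxc : ∀ v ∈ V, x * v = v * x := by
    intro v hv
    have h1 := hfix (QuotientGroup.mk (v⁻¹ : Q))
    rw [MulAction.Quotient.smul_mk, smul_eq_mul, QuotientGroup.eq] at h1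
    -- (x * v⁻¹)⁻¹ * v⁻¹ = v * x⁻¹ * v⁻¹ ∈ H
    have h2 : x * ((x * v⁻¹)⁻¹ * v⁻¹) ∈ H := H.mul_mem hxH h1
    have h3 : x * ((x * v⁻¹)⁻¹ * v⁻¹) = (x * v * x⁻¹) * v⁻¹ := by group
    have h4 : (x * v * x⁻¹) * v⁻¹ ∈ V :=
      V.mul_mem (Subgroup.Normal.conj_mem inferInstance v hv x) (V.inv_mem hv)
    rw [h3] at h2
    have h5 := hdisj _ h4 h2
    calc x * v = ((x * v * x⁻¹) * v⁻¹) * (v * x) := by group
      _ = v * x := by rw [h5, one_mul]
  exact hdisj x (hS.cent x hxc) hxH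

end Cfsg.Agent.Lib.Helper25.HS
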