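import Mathlib
import Cfsg.Agent.Lib.Helper25.HS.Defs
import Cfsg.Agent.Lib.Helper25.HS.PII_CardSemiaffine
import Cfsg.Agent.Lib.Helper25.HS.PII_CardAffine
import Cfsg.Agent.Lib.Helper25.HS.PII_CardAut
import Cfsg.Agent.Lib.Helper25.HS.PII_AffineOfCard

/-!
# S4025 farm, leaf PII_Final23: the case `p = 2`, `n = 3`

RECIPE. `F := GaloisField 2 3`, `Nat.card F = 8` (`GaloisField.card 2 3 (by norm_num)`),
`Nat.card (F ≃+* F) = 3` (`card_aut_galois`), so `|AΓL₁(F)| = 8 * 7 * 3 = 168` (`card_semiaffine`) and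
`|AGL₁(F)| = 56` (`card_affine`).  `f` injective gives `8 * m ∣ 168` (Lagrange for `f.range`,
`Nat.card f.range = Nat.card Q`), so `m ∣ 21`; `7 ∣ 8 * m` gives `7 ∣ m`; so `m = 7` or `m = 21`.
If `m = 21`: `Nat.card Q = 168`, `f` is bijective (`Nat.bijective_iff_injective_and_card` or
`Function.Injective.bijective_of_nat_card_le`), `MulEquiv.ofBijective`.
If `m = 7`: `Nat.card f.range = 56`, coprime to `3`; `affine_of_card` gives `f.range ≃* AGL₁(F)` and
`MonoidHom.ofInjective hf : Q ≃* f.range`.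
-/

set_option autoImplicit false

namespace Cfsg.Agent.Lib.Helper25.HS

theorem final23 {Q : Type*} [Group Q] [Finite Q]
    (f : Q →* ↥(Cfsg.semiaffineGroup (GaloisField 2 3))) (hf : Function.Injective f)
    (m : ℕ) (hm : Nat.card Q = 8 * m) (h7 : 7 ∣ Nat.card Q) :
    Nonempty (Q ≃* ↥(Cfsg.semiaffineGroup (GaloisField 2 3))) ∨
      Nonempty (Q ≃* ↥(Cfsg.affineGroup (GaloisField 2 3))) := by
  sorry

end Cfsg.Agent.Lib.Helper25.HS
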