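import Mathlib
import Cfsg.Agent.Lib.Helper25.HS.Defs
import Cfsg.Agent.Lib.Helper25.HS.PII_CardSemiaffine
import Cfsg.Agent.Lib.Helper25.HS.PII_CardAut

/-!
# S4025 farm, leaf PII_Final25: the case `p = 2`, `n = 5`

RECIPE. `F := GaloisField 2 5`, `Nat.card F = 32` (`GaloisField.card 2 5 (by norm_num)`),
`Nat.card (F ≃+* F) = 5` (`card_aut_galois`), so `|AΓL₁(F)| = 32 * 31 * 5 = 4960` (`card_semiaffine`).
`f` injective gives `32 * m ∣ 4960` (Lagrange for `f.range`), so `m ∣ 155`; `155 ∣ 32 * m` and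
`Nat.Coprime 155 32` give `155 ∣ m`; so `m = 155`, `Nat.card Q = 4960 = |AΓL₁(F)|`, `f` is bijective,
`MulEquiv.ofBijective`.
-/

set_option autoImplicit false

namespace Cfsg.Agent.Lib.Helper25.HS

theorem final25 {Q : Type*} [Group Q] [Finite Q]
    (f : Q →* ↥(Cfsg.semiaffineGroup (GaloisField 2 5))) (hf : Function.Injective f)
    (m : ℕ) (hm : Nat.card Q = 32 * m) (h155 : 155 ∣ Nat.card Q) :
    Nonempty (Q ≃* ↥(Cfsg.semiaffineGroup (GaloisField 2 5))) := by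
  sorry

end Cfsg.Agent.Lib.Helper25.HS
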