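import Mathlib
import Cfsg.Agent.Lib.Helper25.HS.Defs

/-!
# S4025 farm, leaf PII_FixedModEq: fixed points of an element of prime power order on `V`

RECIPE. `zpowers x` is an `r`-group (`orderOf x = r ^ k`, `IsPGroup.of_card`, `Nat.card_zpowers`) acting
on `↥V` by conjugation (`V` normal: `hS.normal`, e.g. through `MulAut.conjNormal`); the fixed points
are `{v : V | x * v * x⁻¹ = v}`, in bijection with `↥(V ⊓ centralizer {x})`.  Apply
`IsPGroup.card_modEq_card_fixedPoints`.
-/

set_option autoImplicit false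

namespace Cfsg.Agent.Lib.Helper25.HS

theorem fixed_modEq {p n : ℕ} [Fact p.Prime] {Q : Type*} [Group Q] {V : Subgroup Q}
    (hS : Setting p n Q V) (x : Q) (r k : ℕ) [Fact r.Prime] (hx : orderOf x = r ^ k) :
    Nat.card V ≡ Nat.card ↥(V ⊓ Subgroup.centralizer {x}) [MOD r] := by
  classical
  have := hS.fin
  have := hS.normal
  let φ : ↥(Subgroup.zpowers x) →* MulAut ↥V :=
    (MulAut.conjNormal (H := V)).comp (Subgroup.zpowers x).subtype
  letI : MulAction ↥(Subgroup.zpowers x) ↥V := MulAction.compHom ↥V φ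
  have hP : IsPGroup r ↥(Subgroup.zpowers x) :=
    IsPGroup.of_card (n := k) (by rw [Nat.card_zpowers, hx])
  have h1 := hP.card_modEq_card_fixedPoints ↥V
  have hsmul : ∀ (g : ↥(Subgroup.zpowers x)) (v : ↥V),
      ((g • v : ↥V) : Q) = (g : Q) * (v : Q) * (g : Q)⁻¹ := by
    intro g v
    show ((MulAut.conjNormal (H := V) (g : Q)) v : Q) = _
    rw [MulAut.conjNormal_apply]
  have e : ↥(MulAction.fixedPoints ↥(Subgroup.zpowers x) ↥V) ≃ ↥(V ⊓ Subgroup.centralizer {x}) :=
    { toFun := fun v => ⟨(v.1 : Q), Subgroup.mem_inf.2 ⟨v.1.2, by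
        rw [Subgroup.mem_centralizer_iff]
        intro h hh
        rw [Set.mem_singleton_iff] at hh
        subst hh
        have hv := v.2 ⟨h, Subgroup.mem_zpowers h⟩
        have hv' := congrArg (Subtype.val) hv
        rw [hsmul] at hv'
        exact mul_inv_eq_iff_eq_mul.1 hv'⟩⟩
      invFun := fun w => ⟨⟨w.1, (Subgroup.mem_inf.1 w.2).1⟩, by
        intro g
        apply Subtype.ext
        rw [hsmul]
        obtain ⟨j, hj⟩ := Subgroup.mem_zpowers_iff.1 g.2
        have hc : Commute x (w.1 : Q) := by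
          have := (Subgroup.mem_centralizer_iff.1 (Subgroup.mem_inf.1 w.2).2) x (Set.mem_singleton x)
          exact this
        have hc' : Commute (x ^ j) (w.1 : Q) := hc.zpow_left j
        rw [← hj]
        exact mul_inv_eq_iff_eq_mul.2 hc'.eq⟩
      left_inv := fun v => by apply Subtype.ext; apply Subtype.ext; rfl
      right_inv := fun w => by apply Subtype.ext; rfl }
  rw [Nat.card_congr e] at h1
  exact h1

end Cfsg.Agent.Lib.Helper25.HS
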