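import Mathlib
import Cfsg.Agent.Lib.Helper25.HS.Defs

/-!
# S4025 farm, leaf PII_Galois: replace the field `F` of a bridge by `GaloisField p n`

RECIPE. `e` is a bijection, so `Nat.card F = p ^ n`.  `F` has characteristic `p`: every `x : F` is
`e v`, and `p • e v = e (v ^ p) = e 1 = 0` (additivity of `e`, `hS.exp`), so `(p : F) = 0` and `p`
is prime (`CharP` via `CharP.ofCharZero`-free route: `charP_of_prime_pow_injective` or
`(CharP.cast_eq_zero_iff F (ringChar F) p)` + primality).  With `Algebra (ZMod p) F := ZMod.algebra F p`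
use `GaloisField.algEquivGaloisField p n : F ≃ₐ[ZMod p] GaloisField p n`; let `ψ` be its ring
equivalence.  Put `e' := ψ ∘ e`; for `g` with `e (g v g⁻¹) = a * σ (e v)` take `a' := ψ a` and
`σ' := (ψ.symm.trans σ).trans ψ`.
-/

set_option autoImplicit false

namespace Cfsg.Agent.Lib.Helper25.HS

theorem bridge_galois {p n : ℕ} [Fact p.Prime] {Q : Type*} [Group Q] {V : Subgroup Q} [V.Normal]
    (hS : Setting p n Q V) (hn : 1 ≤ n) {F : Type} [Field F] [Fintype F] (e : ↥V → F)
    (he : Bridge V F e) :
    ∃ e' : ↥V → GaloisField p n, Bridge V (GaloisField p n) e' := by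
  sorry

end Cfsg.Agent.Lib.Helper25.HS
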