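import Mathlib
import Cfsg.Agent.Lib.Helper25.HS.Defs
import Cfsg.Agent.S3360
import Cfsg.Agent.Lib.Helper13.HC25B

/-!
# S4025 farm, leaf PII_Huppert: linearise `V`, apply Huppert's theorem (S3360, on main)

RECIPE.
* `letI : CommGroup ↥V := { (inferInstance : Group ↥V) with mul_comm := ... }` from `hS.comm`;
  `W := Additive ↥V`; `Module (ZMod p) W` from `AddCommGroup.zmodModule` and `hS.exp` (compare
  `Cfsg/Agent/Lib/Helper22/AutElemAb.lean`, `SemiAut.lean`, `Helper1/Huppert2.lean` for such bridges).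
  `W` is finite, nontrivial (`Nat.card V = p ^ n`, `1 ≤ n`).
* `ρ₀ : Q →* (W ≃ₗ[ZMod p] W)`, `g ↦` the map induced by `MulAut.conjNormal g`
  (`AddMonoidHom.toZModLinearMap`, or build the `LinearEquiv` by hand: additive maps between
  `ZMod p`-modules are automatically linear).
* `Γ :=` the range of `Q × (ZMod p)ˣ →* (W ≃ₗ[ZMod p] W)`, `(g, c) ↦ c • ρ₀ g` (scalars are central in
  the linear group, so this is a homomorphism); `Γ` is solvable (`hS.solv`, a product of solvable
  groups is solvable, images of solvable groups are solvable) and finite.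
* `Γ` is transitive on nonzero vectors: for `v, w ≠ 0` the subgroups `zpowers v`, `zpowers w` of `V`
  have order `p`; `hS.trans` gives `g` with `g (zpowers v) g⁻¹ = zpowers w`, so `g v g⁻¹ = w ^ k` with
  `p ∤ k`, i.e. `ρ₀ g v = k • w`, and the scalar `(k : ZMod p)⁻¹` finishes.
* Apply `Cfsg.Agent.S3360.result p (G := Γ) hsolΓ Γ.subtype Subtype.val_injective htrans`.  In the first
  case one gets `F : Type`, `Field F`, `Fintype F`, `e : W ≃+ F` and for every `γ ∈ Γ` some `a, σ` with
  `e (γ v) = a * σ (e v)`; take `e' := fun v => e (Additive.ofMul v)` and `γ := ρ₀ g` (the image of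
  `(g, 1)`).
-/

set_option autoImplicit false

namespace Cfsg.Agent.Lib.Helper25.HS

namespace PII_Huppert_h13

variable {Q : Type*} [Group Q] (V : Subgroup Q) [V.Normal]

/-- conjugation on `Additive ↥V`, as a permutation representation of `Q` -/
def rho : Q →* Equiv.Perm (Additive ↥V) where
  toFun g := Additive.toMul.trans (((MulAut.conjNormal g : MulAut ↥V).toEquiv).trans Additive.ofMul)
  map_one' := by
    ext w
    simp
  map_mul' a b := by
    ext w
    simp [MulAut.mul_apply]

theorem rho_apply (g : Q) (w : Additive ↥V) :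
    rho V g w = Additive.ofMul (MulAut.conjNormal g (Additive.toMul w)) := rfl

/-- the subgroup of `Q` (inside `V`) attached to a set of `Additive ↥V` closed under the operations -/
def subOf (U : AddSubgroup (Additive ↥V)) : Subgroup Q where
  carrier := {q | ∃ h : q ∈ V, (Additive.ofMul (⟨q, h⟩ : ↥V)) ∈ U}
  one_mem' := ⟨V.one_mem, U.zero_mem⟩
  mul_mem' := by
    rintro a b ⟨ha, ha'⟩ ⟨hb, hb'⟩
    exact ⟨V.mul_mem ha hb, U.add_mem ha' hb'⟩
  inv_mem' := by
    rintro a ⟨ha, ha'⟩
    exact ⟨V.inv_mem ha, U.neg_mem ha'⟩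

theorem mem_subOf (U : AddSubgroup (Additive ↥V)) (q : Q) :
    q ∈ subOf V U ↔ ∃ h : q ∈ V, (Additive.ofMul (⟨q, h⟩ : ↥V)) ∈ U := Iff.rfl

theorem subOf_le (U : AddSubgroup (Additive ↥V)) : subOf V U ≤ V := fun _ hq => hq.1

theorem card_subOf (U : AddSubgroup (Additive ↥V)) : Nat.card ↥(subOf V U) = Nat.card ↥U := by
  apply Nat.card_congr
  refine Equiv.ofBijective
    (fun q : ↥(subOf V U) => (⟨Additive.ofMul (⟨q.1, q.2.1⟩ : ↥V), q.2.2⟩ : ↥U)) ⟨?_, ?_⟩
  · rintro ⟨a, ha⟩ ⟨b, hb⟩ h
    apply Subtype.ext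
    have h1 := congrArg Subtype.val h
    have h2 : (⟨a, ha.1⟩ : ↥V) = ⟨b, hb.1⟩ := Additive.ofMul.injective h1
    change a = b
    exact congrArg (fun x : ↥V => (x : Q)) h2
  · rintro ⟨w, hw⟩
    refine ⟨⟨((Additive.toMul w : ↥V) : Q), ⟨(Additive.toMul w : ↥V).2, ?_⟩⟩, ?_⟩
    · exact hw
    · rfl

end PII_Huppert_h13

theorem huppert_bridge {p n : ℕ} [Fact p.Prime] {Q : Type*} [Group Q] {V : Subgroup Q} [V.Normal]
    (hS : Setting p n Q V) (hn : 1 ≤ n) :
    (∃ (F : Type) (_ : Field F) (_ : Fintype F) (e : ↥V → F), Bridge V F e) ∨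
      Nat.card V ∈ ({9, 25, 49, 121, 529, 81} : Set ℕ) := by
  classical
  have := hS.fin
  have hp : p.Prime := Fact.out
  let _ : CommGroup ↥V :=
    { (inferInstance : Group ↥V) with
      mul_comm := fun a b => Subtype.ext (hS.comm a a.2 b b.2) }
  -- the additive group `W`
  have hexp : ∀ w : Additive ↥V, p • w = 0 := by
    intro w
    have h1 : (Additive.toMul w : ↥V) ^ p = 1 := by
      apply Subtype.ext
      have := hS.exp (Additive.toMul w : ↥V) (Additive.toMul w : ↥V).2
      simpa using this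
    have h2 : p • w = Additive.ofMul ((Additive.toMul w : ↥V) ^ p) := rfl
    rw [h2, h1]
    rfl
  have hcardW : Nat.card (Additive ↥V) = Nat.card ↥V := Nat.card_congr Additive.toMul
  have : Finite (Additive ↥V) := Finite.of_equiv _ Additive.ofMul
  have : Nontrivial (Additive ↥V) := by
    apply (Finite.one_lt_card_iff_nontrivial).mp
    rw [hcardW, hS.card]
    exact Nat.one_lt_pow (by omega) hp.one_lt
  -- the group of permutations
  have hadd : ∀ γ ∈ (PII_Huppert_h13.rho V).range, ∀ v w : Additive ↥V, γ (v + w) = γ v + γ w := by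
    rintro _ ⟨g, rfl⟩ v w
    rw [PII_Huppert_h13.rho_apply, PII_Huppert_h13.rho_apply, PII_Huppert_h13.rho_apply]
    change Additive.ofMul (MulAut.conjNormal g (Additive.toMul v * Additive.toMul w)) = _
    rw [map_mul]
    rfl
  have hsol : Group.IsSolvable ↥(PII_Huppert_h13.rho V).range := by
    have := hS.solv
    exact Group.isSolvable_of_surjective (f := (PII_Huppert_h13.rho V).rangeRestrict)
      (PII_Huppert_h13.rho V).rangeRestrict_surjective
  have htr : ∀ U₁ U₂ : AddSubgroup (Additive ↥V), Nat.card U₁ = Nat.card U₂ →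
      ∃ γ ∈ (PII_Huppert_h13.rho V).range, ∀ v, v ∈ U₁ ↔ γ v ∈ U₂ := by
    intro U₁ U₂ hU
    obtain ⟨g, hg⟩ := hS.trans (PII_Huppert_h13.subOf V U₁) (PII_Huppert_h13.subOf V U₂)
      (PII_Huppert_h13.subOf_le V U₁) (PII_Huppert_h13.subOf_le V U₂)
      (by rw [PII_Huppert_h13.card_subOf, PII_Huppert_h13.card_subOf, hU])
    refine ⟨PII_Huppert_h13.rho V g, ⟨g, rfl⟩, fun v => ?_⟩
    rw [PII_Huppert_h13.rho_apply]
    constructor
    · intro hv
      have h1 : ((Additive.toMul v : ↥V) : Q) ∈ PII_Huppert_h13.subOf V U₁ :=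
        ⟨(Additive.toMul v : ↥V).2, hv⟩
      have h2 : g * ((Additive.toMul v : ↥V) : Q) * g⁻¹ ∈ PII_Huppert_h13.subOf V U₂ := by
        rw [hg]
        exact ⟨_, h1, rfl⟩
      obtain ⟨h3, h4⟩ := h2
      exact h4
    · intro hv
      have h2 : g * ((Additive.toMul v : ↥V) : Q) * g⁻¹ ∈ PII_Huppert_h13.subOf V U₂ :=
        ⟨(MulAut.conjNormal g (Additive.toMul v : ↥V)).2, hv⟩
      rw [hg] at h2
      obtain ⟨q, hq, hqe⟩ := h2
      have hqe' : g * q * g⁻¹ = g * ((Additive.toMul v : ↥V) : Q) * g⁻¹ := hqe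
      have hq2 : q = ((Additive.toMul v : ↥V) : Q) := by
        have := mul_right_cancel hqe'
        exact mul_left_cancel this
      rw [hq2] at hq
      obtain ⟨h3, h4⟩ := hq
      exact h4
  rcases Cfsg.Agent.Lib.Helper13.HC25B.huppert_or_small hexp (PII_Huppert_h13.rho V).range hadd hsol htr
    with hfield | hsmall
  · left
    obtain ⟨F, iF, iFt, e, he⟩ := hfield
    refine ⟨F, iF, iFt, fun v => e (Additive.ofMul v), ?_, ?_, ?_⟩
    · exact e.bijective.comp Additive.ofMul.bijective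
    · intro u v
      change e (Additive.ofMul u + Additive.ofMul v) = _
      rw [map_add]
    · intro g
      obtain ⟨a, σ, h⟩ := he (PII_Huppert_h13.rho V g) ⟨g, rfl⟩
      exact ⟨a, σ, fun v => h (Additive.ofMul v)⟩
  · right
    rw [← hcardW]
    exact hsmall

end Cfsg.Agent.Lib.Helper25.HS
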