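import Mathlib
import Cfsg.Agent.Lib.Helper25.HS.Defs
import Cfsg.Agent.Lib.Helper22.AutElemAb

/-!
# S4025 farm, leaf PII_IndexDvd: `[Q : V]` divides `|GL_n(p)|`

RECIPE. `haveI := hS.normal`; the homomorphism `MulAut.conjNormal : Q →* MulAut ↥V` has kernel
`C_Q(V) = V` (`≥` by `hS.comm`, `≤` by `hS.cent`), so `V.index = Nat.card (range)`
(`Subgroup.index_ker`).  Put the `CommGroup ↥V` instance from `hS.comm`
(`{ (inferInstance : Group ↥V) with mul_comm := ... }`) and apply
`Cfsg.Agent.Lib.Helper22.card_mulAut_subgroup_dvd ↥V p n hexp hS.card range`.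
-/

set_option autoImplicit false

namespace Cfsg.Agent.Lib.Helper25.HS

theorem index_dvd {p n : ℕ} [Fact p.Prime] {Q : Type*} [Group Q] {V : Subgroup Q}
    (hS : Setting p n Q V) :
    V.index ∣ ∏ i ∈ Finset.range n, (p ^ n - p ^ i) := by
  sorry

end Cfsg.Agent.Lib.Helper25.HS
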