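import Mathlib
import Cfsg.Agent.Lib.Helper25.HS.Defs
import Cfsg.Agent.Lib.Helper25.HS.PII_FixedModEq
import Cfsg.Agent.Lib.Helper1.Hall

/-!
# S4025 farm, leaf PII_No81: the case `|V| = 3 ^ 4` is impossible

RECIPE (`C_V(x) := V ⊓ centralizer {x}`; `|V| = 81`, `|Q| = 81 * m`, `m = V.index`, `3 ∤ m`,
`m ∣ 24261120 = 2 ^ 9 * 3 ^ 6 * 5 * 13`, `5 ∣ m`, `13 ∣ m`).
1. So `m = 65 * m'` with `m'` prime to `65`, and `|Q| = 65 * (81 * m')` with `Nat.Coprime 65 (81 * m')`.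
   `Q` is solvable (`hS.solv`): `Cfsg.Agent.Lib.Helper1.hall_exists 65 (81 * m')` gives `D ≤ Q` with
   `Nat.card D = 65`.
2. In `D` take `c` of order `13` and `d` of order `5` (Cauchy: `exists_prime_orderOf_dvd_card'`).  The
   Sylow `13`-subgroup of `D` is normal (`card_sylow_modEq_one`, the number divides `5`), it is
   `zpowers c`; so `d * c * d⁻¹ ∈ zpowers c`, hence `d` normalises `U := C_V(c) = C_V(zpowers c)`.
3. (`fixed_modEq` with `r = 13`, `k = 1`) `81 ≡ |U| [MOD 13]`, and `|U| ∣ 81`, so `|U| = 3` or `|U| = 81`.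
   If `|U| = 81` then `c` centralises `V`, so `c ∈ V` by `hS.cent`, so `13 = orderOf c ∣ 81`: absurd.
   Hence `|U| = 3`.
4. `d` acts on `U` (order `3`) by conjugation, `orderOf d = 5`: every orbit of `zpowers d` on `U` has
   size `1` or `5`, so `d` centralises `U`: `U ≤ C_V(d)`.
5. (`fixed_modEq` with `r = 5`, `k = 1`) `81 ≡ |C_V(d)| [MOD 5]`, `|C_V(d)| ∣ 81`, so `|C_V(d)| ∈ {1, 81}`;
   `81` is impossible as in 3 (`5 ∤ 81`); so `C_V(d) = ⊥`, contradicting `U ≤ C_V(d)`, `|U| = 3`.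
-/

set_option autoImplicit false

namespace Cfsg.Agent.Lib.Helper25.HS

theorem no81 {Q : Type*} [Group Q] {V : Subgroup Q} (hS : Setting 3 4 Q V)
    (h5 : 5 ∣ Nat.card Q) (h13 : 13 ∣ Nat.card Q) (hidx : V.index ∣ 24261120) : False := by
  sorry

end Cfsg.Agent.Lib.Helper25.HS
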