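import Mathlib
import Cfsg.Agent.Lib.Helper25.HS.Defs

/-!
# S4025 farm, leaf PII_OrbitDvd: the number of subgroups of `V` of a given order divides `|Q|`

RECIPE. `Q` acts on `X := {A : Subgroup Q // A ≤ V ∧ Nat.card A = m}` by conjugation
(`A ↦ A.map (MulAut.conj g).toMonoidHom`; stays inside `V` as `V` is normal (`hS.normal`); same
order).  By `hS.trans` the action is transitive and `X` is nonempty (`hne`), so `Nat.card X` is the
size of an orbit, which divides `Nat.card Q` (`MulAction.card_orbit_mul_card_stabilizer_eq_card_group`).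
-/

set_option autoImplicit false

namespace Cfsg.Agent.Lib.Helper25.HS

theorem orbit_dvd {p n : ℕ} [Fact p.Prime] {Q : Type*} [Group Q] {V : Subgroup Q}
    (hS : Setting p n Q V) (m : ℕ) (hne : ∃ A : Subgroup Q, A ≤ V ∧ Nat.card A = m) :
    Nat.card {A : Subgroup Q // A ≤ V ∧ Nat.card A = m} ∣ Nat.card Q := by
  sorry

end Cfsg.Agent.Lib.Helper25.HS
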