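import Mathlib
import Cfsg.Agent.Lib.Helper25.HS.Defs

/-!
# S4025 farm, leaf PII_PlaneTrans: `ΓL₁(F)` is transitive on additive subgroups of `F` of equal order

RECIPE. For an additive subgroup `A` of `F` let `A₀ ≤ V` be the subgroup `{v ∈ V | e v ∈ A}` of `Q`
(a subgroup as `e` is additive: `e 1 = 0`, `e (u * v) = e u + e v`, `e v⁻¹ = - e v`); `e` restricts to
a bijection `A₀ → A`, so `Nat.card A₀ = Nat.card A`.  Same for `B`.  `hS.trans` gives `g : Q` with
`B₀ = g A₀ g⁻¹`; the bridge gives `a, σ` with `e (g v g⁻¹) = a * σ (e v)` for all `v : V`.  `a ≠ 0`: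
otherwise `e` would vanish on all of `V` (conjugation by `g` is onto `V`), contradicting injectivity
as `Nat.card V = p ^ n > 1`.  Then `t := x ↦ a * σ x` (a permutation, inverse
`y ↦ σ.symm (a⁻¹ * y)`) lies in `GammaL1 F` and `t '' A = B`.
-/

set_option autoImplicit false

namespace Cfsg.Agent.Lib.Helper25.HS

theorem gammaL1_trans {p n : ℕ} [Fact p.Prime] {Q : Type*} [Group Q] {V : Subgroup Q} [V.Normal]
    (hS : Setting p n Q V) (hn : 1 ≤ n) {F : Type*} [Field F] (e : ↥V → F) (he : Bridge V F e)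
    (A B : AddSubgroup F) (hAB : Nat.card A = Nat.card B) :
    ∃ t ∈ GammaL1 F, (B : Set F) = (t : F → F) '' (A : Set F) := by
  sorry

end Cfsg.Agent.Lib.Helper25.HS
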