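import Mathlib
import Cfsg.Agent.Lib.Helper25.HS.Defs

/-!
# S4025 farm, leaf PII_PlanesDvd: orbit–stabiliser for `ΓL₁(F)` on additive subgroups of order `p ^ k`

RECIPE. Every `t ∈ GammaL1 F` is additive (`t x = a * φ x`), so `GammaL1 F` acts on
`X := {A : AddSubgroup F // Nat.card A = p ^ k}` by `t • A = A.map t` (image); by `htr` the action is
transitive, `X` is nonempty by `hne`, so `Nat.card (GammaL1 F) = Nat.card X * Nat.card (stabilizer A₀)`
(`MulAction.card_orbit_mul_card_stabilizer_eq_card_group`).  The scalars `x ↦ (c : F) * x`,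
`c : (ZMod p)ˣ` (use `ZMod.castHom (dvd_refl p) F`, injective as `F` is a field of characteristic `p`)
form a subgroup of order `p - 1` of `GammaL1 F` (with `φ = 1`) contained in the stabiliser of every
additive subgroup (`(c : F) * x` is a natural-number multiple of `x`).  By Lagrange `p - 1` divides
the order of the stabiliser.
-/

set_option autoImplicit false

namespace Cfsg.Agent.Lib.Helper25.HS

theorem planes_dvd {p : ℕ} [Fact p.Prime] {F : Type*} [Field F] [Finite F] [CharP F p] (k : ℕ)
    (hne : ∃ A : AddSubgroup F, Nat.card A = p ^ k)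
    (htr : ∀ A B : AddSubgroup F, Nat.card A = p ^ k → Nat.card B = p ^ k →
      ∃ t ∈ GammaL1 F, (B : Set F) = (t : F → F) '' (A : Set F)) :
    Nat.card {A : AddSubgroup F // Nat.card A = p ^ k} * (p - 1) ∣ Nat.card (GammaL1 F) := by
  sorry

end Cfsg.Agent.Lib.Helper25.HS
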