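import Mathlib
import Cfsg.Agent.Lib.Helper25.HS.Defs
import Cfsg.Agent.Lib.Helper1.Cores

/-!
# S4025 farm, leaf PI_CentLe: `C_N(P) ≤ P * O_{p'}(N)` for an abelian Sylow subgroup `P`, `N = N_G(P)`

RECIPE. Put `N = N_G(P)`, `C = C_N(P)` (normal in `N`).  `P ≤ Z(C)` is a Sylow `p`-subgroup of `C`,
so `C` has a normal `p`-complement `R` (Burnside's transfer theorem, Mathlib
`MonoidHom.ker_transferSylow_isComplement'` applied inside `C`, or Schur–Zassenhaus
`Subgroup.exists_right_complement'_of_coprime` for the normal Hall subgroup `P` of `C`; as `P` is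
central the complement is normal and `C = P × R`).  `R` is the set of all elements of `C` of order
prime to `p`, hence characteristic in `C`, hence normal in `N`; its order is prime to `p`, so
`R ≤ O_{p'}(N)` (`Cfsg.Agent.Lib.Helper1.le_pPrimeCore`).  Any `x ∈ C` is `u * k` with `u ∈ P`, `k ∈ R`.
-/

set_option autoImplicit false
open Cfsg

namespace Cfsg.Agent.Lib.Helper25.HS

/-- auxiliary (helper8): a normal abelian Hall subgroup `PN` (index prime to `p`) of a finite group `M`: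
every element centralizing `PN` is in `PN * O_{p'}(M)`. -/
theorem cent_le_aux_h8 {M : Type*} [Group M] [Finite M] {p : ℕ} [Fact p.Prime] (PN : Subgroup M)
    (hPNn : PN.Normal) (hcop : Nat.Coprime (Nat.card ↥PN) PN.index) (hidx : ¬ p ∣ PN.index)
    (hab : ∀ a ∈ PN, ∀ b ∈ PN, a * b = b * a) (x : M) (hx : ∀ v ∈ PN, x * v = v * x) :
    ∃ u k : M, u ∈ PN ∧ k ∈ Cfsg.pPrimeCore p M ∧ x = u * k := by
  classical
  have := hPNn
  obtain ⟨L, hL⟩ := Subgroup.exists_right_complement'_of_coprime hcop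
  -- decomposition of an arbitrary element
  have hdec : ∀ y : M, ∃ u ∈ PN, ∃ l ∈ L, y = u * l := by
    intro y
    obtain ⟨⟨⟨u, hu⟩, ⟨l, hl⟩⟩, hul, -⟩ := hL.existsUnique y
    exact ⟨u, hu, l, hl, hul.symm⟩
  have hcardL : Nat.card ↥L = PN.index := by
    have h1 := hL.card_mul_card
    have h2 := Subgroup.card_mul_index PN
    have hpos : 0 < Nat.card ↥PN := Nat.card_pos
    exact Nat.eq_of_mul_eq_mul_left hpos (h1.trans h2.symm)
  -- `R = C_L(PN)`
  let R : Subgroup M := Subgroup.centralizer (PN : Set M) ⊓ L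
  have hRmem : ∀ r : M, r ∈ R ↔ (∀ v ∈ PN, v * r = r * v) ∧ r ∈ L := by
    intro r
    show r ∈ Subgroup.centralizer (PN : Set M) ⊓ L ↔ _
    rw [Subgroup.mem_inf, Subgroup.mem_centralizer_iff]
    rfl
  have hRn : R.Normal := by
    constructor
    intro r hr n
    rw [hRmem] at hr ⊢
    obtain ⟨hrc, hrL⟩ := hr
    obtain ⟨u, hu, l, hl, rfl⟩ := hdec n
    have h1 : ∀ v ∈ PN, v * (l * r * l⁻¹) = (l * r * l⁻¹) * v := by
      intro v hv
      have hv' : l⁻¹ * v * l ∈ PN := by
        have := hPNn.conj_mem v hv l⁻¹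
        simpa using this
      have h2 := hrc _ hv'
      calc v * (l * r * l⁻¹) = l * ((l⁻¹ * v * l) * r) * l⁻¹ := by group
        _ = l * (r * (l⁻¹ * v * l)) * l⁻¹ := by rw [h2]
        _ = (l * r * l⁻¹) * v := by group
    have h3 : u * l * r * (u * l)⁻¹ = l * r * l⁻¹ := by
      have h4 := h1 u hu
      calc u * l * r * (u * l)⁻¹ = (u * (l * r * l⁻¹)) * u⁻¹ := by group
        _ = ((l * r * l⁻¹) * u) * u⁻¹ := by rw [h4]
        _ = l * r * l⁻¹ := by group
    rw [h3]
    exact ⟨h1, L.mul_mem (L.mul_mem hl hrL) (L.inv_mem hl)⟩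
  have hRcop : (Nat.card ↥R).Coprime p := by
    have hRL : R ≤ L := inf_le_right
    have h1 : Nat.card ↥R ∣ Nat.card ↥L := Subgroup.card_dvd_of_le hRL
    rw [hcardL] at h1
    have h2 : (PN.index).Coprime p :=
      (Nat.Coprime.symm ((Nat.Prime.coprime_iff_not_dvd (Fact.out : p.Prime)).mpr hidx))
    exact Nat.Coprime.coprime_dvd_left h1 h2
  have hRle : R ≤ Cfsg.pPrimeCore p M := Cfsg.Agent.Lib.Helper1.le_pPrimeCore hRn hRcop
  obtain ⟨u, hu, l, hl, hxul⟩ := hdec x
  refine ⟨u, l, hu, hRle ?_, hxul⟩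
  rw [hRmem]
  refine ⟨?_, hl⟩
  intro v hv
  have hl_eq : l = u⁻¹ * x := by rw [hxul]; group
  have hxv : x * v = v * x := hx v hv
  have huv : u * v = v * u := hab u hu v hv
  rw [hl_eq]
  calc v * (u⁻¹ * x) = u⁻¹ * (u * v) * u⁻¹ * x := by group
    _ = u⁻¹ * (v * u) * u⁻¹ * x := by rw [huv]
    _ = u⁻¹ * (v * x) := by group
    _ = u⁻¹ * (x * v) := by rw [hxv]
    _ = u⁻¹ * x * v := by group

theorem cent_le {G : Type*} [Group G] [Finite G] {p : ℕ} [Fact p.Prime] (P : Sylow p G)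
    (hab : ∀ a ∈ (P : Subgroup G), ∀ b ∈ (P : Subgroup G), a * b = b * a)
    (x : ↥(Subgroup.normalizer ((P : Subgroup G) : Set G)))
    (hx : ∀ v ∈ (P : Subgroup G), (x : G) * v = v * (x : G)) :
    ∃ u k : ↥(Subgroup.normalizer ((P : Subgroup G) : Set G)),
      (u : G) ∈ (P : Subgroup G) ∧
      k ∈ Cfsg.pPrimeCore p ↥(Subgroup.normalizer ((P : Subgroup G) : Set G)) ∧ x = u * k := by
  have hPle : (P : Subgroup G) ≤ Subgroup.normalizer ((P : Subgroup G) : Set G) :=
    Subgroup.le_normalizer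
  have hPNn : ((P : Subgroup G).subgroupOf (Subgroup.normalizer ((P : Subgroup G) : Set G))).Normal :=
    Subgroup.normal_in_normalizer
  have hcardPN : Nat.card ↥((P : Subgroup G).subgroupOf
      (Subgroup.normalizer ((P : Subgroup G) : Set G))) = Nat.card ↥(P : Subgroup G) :=
    Nat.card_congr (Subgroup.subgroupOfEquivOfLe hPle).toEquiv
  have hidx : ¬ p ∣ ((P : Subgroup G).subgroupOf
      (Subgroup.normalizer ((P : Subgroup G) : Set G))).index := by
    intro hdvd
    have h1 : ((P : Subgroup G).subgroupOf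
        (Subgroup.normalizer ((P : Subgroup G) : Set G))).index ∣ (P : Subgroup G).index :=
      Subgroup.relIndex_dvd_index_of_le hPle
    exact P.not_dvd_index (hdvd.trans h1)
  have hcop : Nat.Coprime (Nat.card ↥((P : Subgroup G).subgroupOf
      (Subgroup.normalizer ((P : Subgroup G) : Set G))))
      ((P : Subgroup G).subgroupOf (Subgroup.normalizer ((P : Subgroup G) : Set G))).index := by
    obtain ⟨k, hk⟩ := (P.isPGroup').exists_card_eq
    rw [hcardPN, hk]
    exact Nat.Coprime.pow_left k ((Nat.Prime.coprime_iff_not_dvd (Fact.out : p.Prime)).mpr hidx)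
  obtain ⟨u, k, hu, hk, hxuk⟩ := cent_le_aux_h8 (p := p) _ hPNn hcop hidx
    (fun a ha b hb => Subtype.ext (hab (a : G) (Subgroup.mem_subgroupOf.mp ha) (b : G)
      (Subgroup.mem_subgroupOf.mp hb)))
    x (fun v hv => Subtype.ext (hx (v : G) (Subgroup.mem_subgroupOf.mp hv)))
  exact ⟨u, k, Subgroup.mem_subgroupOf.mp hu, hk, hxuk⟩

end Cfsg.Agent.Lib.Helper25.HS
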