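import Mathlib
import Cfsg.Agent.Lib.Helper25.HS.Defs

/-!
# S4025 farm, leaf PI_Fusion (Burnside: the normaliser of an abelian Sylow subgroup controls fusion)

RECIPE. `B = x A x⁻¹`, `A, B ≤ P`, `P` abelian. Then `P ≤ C_G(B)` and `x P x⁻¹ ≤ C_G(x A x⁻¹) = C_G(B)`.
Both are Sylow `p`-subgroups of `C := C_G(B)` (they are Sylow in `G`), so by Sylow's theorem in `C`
there is `c ∈ C` with `c (x P x⁻¹) c⁻¹ = P`.  Put `g = c * x`: then `g ∈ N_G(P)` and
`g A g⁻¹ = c B c⁻¹ = B`.
-/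

set_option autoImplicit false

namespace Cfsg.Agent.Lib.Helper25.HS

theorem fusion {G : Type*} [Group G] [Finite G] {p : ℕ} [Fact p.Prime] (P : Sylow p G)
    (hab : ∀ a ∈ (P : Subgroup G), ∀ b ∈ (P : Subgroup G), a * b = b * a)
    (A B : Subgroup G) (hA : A ≤ (P : Subgroup G)) (hB : B ≤ (P : Subgroup G)) (x : G)
    (hx : B = A.map (MulAut.conj x).toMonoidHom) :
    ∃ g ∈ Subgroup.normalizer ((P : Subgroup G) : Set G),
      B = A.map (MulAut.conj g).toMonoidHom := by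
  classical
  have h1 : (P : Subgroup G) ≤ Subgroup.centralizer (B : Set G) := by
    intro y hy
    rw [Subgroup.mem_centralizer_iff]
    intro b hb
    exact hab b (hB hb) y hy
  have h2 : ((x • P : Sylow p G) : Subgroup G) ≤ Subgroup.centralizer (B : Set G) := by
    rintro - ⟨y, hy, rfl⟩
    rw [Subgroup.mem_centralizer_iff]
    intro b hb
    rw [hx] at hb
    obtain ⟨a, ha, rfl⟩ := hb
    have hc := hab a (hA ha) y hy
    simp only [MulEquiv.coe_toMonoidHom, MulAut.conj_apply, MulDistribMulAction.toMonoidEnd_apply,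
      MulDistribMulAction.toMonoidHom_apply, MulAut.smul_def]
    calc x * a * x⁻¹ * (x * y * x⁻¹) = x * (a * y) * x⁻¹ := by group
      _ = x * (y * a) * x⁻¹ := by rw [hc]
      _ = x * y * x⁻¹ * (x * a * x⁻¹) := by group
  obtain ⟨h, hh⟩ :=
    MulAction.exists_smul_eq (Subgroup.centralizer (B : Set G)) ((x • P).subtype h2) (P.subtype h1)
  simp_rw [Sylow.smul_subtype, Subgroup.smul_def, smul_smul] at hh
  refine ⟨h * x, Sylow.smul_eq_iff_mem_normalizer.mp (Sylow.subtype_injective hh), ?_⟩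
  ext z
  constructor
  · intro hz
    have hz' := hz
    rw [hx] at hz'
    obtain ⟨a, ha, rfl⟩ := hz'
    refine ⟨a, ha, ?_⟩
    have hcomm := h.2 ((MulAut.conj x).toMonoidHom a) (by exact hz)
    simp only [MulEquiv.coe_toMonoidHom, MulAut.conj_apply] at hcomm ⊢
    calc (h : G) * x * a * ((h : G) * x)⁻¹ = (h : G) * (x * a * x⁻¹) * (h : G)⁻¹ := by group
      _ = (x * a * x⁻¹) * (h : G) * (h : G)⁻¹ := by rw [← hcomm]
      _ = x * a * x⁻¹ := by group
  · rintro ⟨a, ha, rfl⟩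
    have hb : (MulAut.conj x).toMonoidHom a ∈ B := by rw [hx]; exact ⟨a, ha, rfl⟩
    have hcomm := h.2 ((MulAut.conj x).toMonoidHom a) hb
    simp only [MulEquiv.coe_toMonoidHom, MulAut.conj_apply] at hcomm hb ⊢
    have : (h : G) * x * a * ((h : G) * x)⁻¹ = x * a * x⁻¹ := by
      calc (h : G) * x * a * ((h : G) * x)⁻¹ = (h : G) * (x * a * x⁻¹) * (h : G)⁻¹ := by group
        _ = (x * a * x⁻¹) * (h : G) * (h : G)⁻¹ := by rw [← hcomm]
        _ = x * a * x⁻¹ := by group
    rw [this]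
    exact hb

end Cfsg.Agent.Lib.Helper25.HS
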