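import Mathlib
import Cfsg.Agent.Lib.Helper25.HS.Defs
import Cfsg.Agent.Lib.Helper1.Cores

/-!
# S4025 farm: the image `Vbar p P` of `P` in `N_G(P) / O_{p'}(N_G(P))` (definition only, no leaf)
-/

set_option autoImplicit false
open Cfsg

namespace Cfsg.Agent.Lib.Helper25.HS

/-- The image of `P` in `N_G(P) / O_{p'}(N_G(P))`. -/
abbrev Vbar {G : Type*} [Group G] (p : ℕ) (P : Subgroup G) :
    Subgroup (↥(Subgroup.normalizer (P : Set G)) ⧸
      Cfsg.pPrimeCore p ↥(Subgroup.normalizer (P : Set G))) :=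
  (P.subgroupOf (Subgroup.normalizer (P : Set G))).map
    (QuotientGroup.mk' (Cfsg.pPrimeCore p ↥(Subgroup.normalizer (P : Set G))))

end Cfsg.Agent.Lib.Helper25.HS
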