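import Mathlib
import Cfsg.Agent.Lib.Helper25.HS.PI_Vbar

/-!
# S4025 farm, leaf PI_VCard: the image of `P` in `N/O_{p'}(N)` has the same order as `P`

RECIPE. `K = O_{p'}(N)` has order prime to `p` (`Cfsg.Agent.Lib.Helper1.pPrimeCore_coprime`), `P` is a
`p`-group, so `P.subgroupOf N ⊓ K = ⊥` (coprime orders) and the quotient map is injective on
`P.subgroupOf N`; moreover `P ≤ N` so `Nat.card (P.subgroupOf N) = Nat.card P`.
-/

set_option autoImplicit false
open Cfsg

namespace Cfsg.Agent.Lib.Helper25.HS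

namespace PI_VCard_h13

/-- `P.subgroupOf N ⊓ O_{p'}(N) = ⊥` for a Sylow `p`-subgroup `P` and `N = N_G(P)`. -/
theorem inf_eq_bot {G : Type*} [Group G] [Finite G] {p : ℕ} [Fact p.Prime] (P : Sylow p G) :
    ((P : Subgroup G).subgroupOf (Subgroup.normalizer ((P : Subgroup G) : Set G))) ⊓
      Cfsg.pPrimeCore p ↥(Subgroup.normalizer ((P : Subgroup G) : Set G)) = ⊥ := by
  apply Subgroup.inf_eq_bot_of_coprime
  have h1 : Nat.card ↥((P : Subgroup G).subgroupOf (Subgroup.normalizer ((P : Subgroup G) : Set G))) =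
      Nat.card ↥(P : Subgroup G) :=
    Nat.card_congr (Subgroup.subgroupOfEquivOfLe Subgroup.le_normalizer).toEquiv
  obtain ⟨k, hk⟩ := IsPGroup.iff_card.mp P.isPGroup'
  rw [h1, hk]
  apply Nat.Coprime.pow_left
  exact (Cfsg.Agent.Lib.Helper1.pPrimeCore_coprime
    (G := ↥(Subgroup.normalizer ((P : Subgroup G) : Set G))) p).symm

end PI_VCard_h13

theorem Vbar_card {G : Type*} [Group G] [Finite G] {p : ℕ} [Fact p.Prime] (P : Sylow p G) :
    Nat.card (Vbar p (P : Subgroup G)) = Nat.card (P : Subgroup G) := by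
  have hbot := PI_VCard_h13.inf_eq_bot P
  have hcard : Nat.card ↥((P : Subgroup G).subgroupOf (Subgroup.normalizer ((P : Subgroup G) : Set G))) =
      Nat.card ↥(P : Subgroup G) :=
    Nat.card_congr (Subgroup.subgroupOfEquivOfLe Subgroup.le_normalizer).toEquiv
  rw [← hcard]
  symm
  apply Nat.card_eq_of_bijective
    ((QuotientGroup.mk' (Cfsg.pPrimeCore p ↥(Subgroup.normalizer ((P : Subgroup G) : Set G)))).subgroupMap
      ((P : Subgroup G).subgroupOf (Subgroup.normalizer ((P : Subgroup G) : Set G))))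
  refine ⟨?_, MonoidHom.subgroupMap_surjective _ _⟩
  rw [injective_iff_map_eq_one]
  intro h hh
  have h1 : (QuotientGroup.mk' (Cfsg.pPrimeCore p ↥(Subgroup.normalizer ((P : Subgroup G) : Set G))))
      (h : ↥(Subgroup.normalizer ((P : Subgroup G) : Set G))) = 1 := by
    have := congrArg Subtype.val hh
    exact this
  rw [QuotientGroup.mk'_apply, QuotientGroup.eq_one_iff] at h1
  have h2 : (h : ↥(Subgroup.normalizer ((P : Subgroup G) : Set G))) ∈
      ((P : Subgroup G).subgroupOf (Subgroup.normalizer ((P : Subgroup G) : Set G))) ⊓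
      Cfsg.pPrimeCore p ↥(Subgroup.normalizer ((P : Subgroup G) : Set G)) := ⟨h.2, h1⟩
  rw [hbot, Subgroup.mem_bot] at h2
  exact Subtype.ext h2

end Cfsg.Agent.Lib.Helper25.HS
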