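import Mathlib
import Cfsg.Agent.Lib.Helper25.HS.PI_Vbar
import Cfsg.Agent.Lib.Helper25.HS.PI_CentLe

/-!
# S4025 farm, leaf PI_VCent: the image of `P` in `N/O_{p'}(N)` is self-centralising

RECIPE. Write `x = π y` with `y : N`.  For `v ∈ P` (as an element `v' : N`): `π y` commutes with
`π v'`, so `y v' y⁻¹ v'⁻¹ ∈ K`; also `y v' y⁻¹ v'⁻¹ ∈ P` since `y` normalises `P`; and
`P.subgroupOf N ⊓ K = ⊥` (orders coprime: `Cfsg.Agent.Lib.Helper1.pPrimeCore_coprime`, `P.2` is a `p`-group).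
Hence `y` centralises `P`; by `cent_le`, `y = u * k` with `u ∈ P`, `k ∈ K`, so `x = π u ∈ Vbar`.
-/

set_option autoImplicit false
open Cfsg

namespace Cfsg.Agent.Lib.Helper25.HS

namespace PI_VCent_h13

/-- `P.subgroupOf N ⊓ O_{p'}(N) = ⊥` for a Sylow `p`-subgroup `P` and `N = N_G(P)`. -/
theorem inf_eq_bot {G : Type*} [Group G] [Finite G] {p : ℕ} [Fact p.Prime] (P : Sylow p G) :
    ((P : Subgroup G).subgroupOf (Subgroup.normalizer ((P : Subgroup G) : Set G))) ⊓
      Cfsg.pPrimeCore p ↥(Subgroup.normalizer ((P : Subgroup G) : Set G)) = ⊥ := by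
  apply Subgroup.inf_eq_bot_of_coprime
  have h1 : Nat.card ↥((P : Subgroup G).subgroupOf (Subgroup.normalizer ((P : Subgroup G) : Set G))) =
      Nat.card ↥(P : Subgroup G) :=
    Nat.card_congr (Subgroup.subgroupOfEquivOfLe Subgroup.le_normalizer).toEquiv
  obtain ⟨k, hk⟩ := IsPGroup.iff_card.mp P.isPGroup'
  rw [h1, hk]
  apply Nat.Coprime.pow_left
  exact (Cfsg.Agent.Lib.Helper1.pPrimeCore_coprime
    (G := ↥(Subgroup.normalizer ((P : Subgroup G) : Set G))) p).symm

end PI_VCent_h13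

theorem Vbar_cent {G : Type*} [Group G] [Finite G] {p : ℕ} [Fact p.Prime] (P : Sylow p G)
    (hab : ∀ a ∈ (P : Subgroup G), ∀ b ∈ (P : Subgroup G), a * b = b * a)
    (x : ↥(Subgroup.normalizer ((P : Subgroup G) : Set G)) ⧸
      Cfsg.pPrimeCore p ↥(Subgroup.normalizer ((P : Subgroup G) : Set G)))
    (hx : ∀ v ∈ Vbar p (P : Subgroup G), x * v = v * x) :
    x ∈ Vbar p (P : Subgroup G) := by
  have hbot := PI_VCent_h13.inf_eq_bot P
  haveI hKn : (Cfsg.pPrimeCore p ↥(Subgroup.normalizer ((P : Subgroup G) : Set G))).Normal :=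
    Cfsg.Agent.Lib.Helper1.pPrimeCore_normal p
  obtain ⟨y, rfl⟩ := QuotientGroup.mk_surjective x
  -- `y` centralises `P`
  have hy : ∀ v ∈ (P : Subgroup G), (y : G) * v = v * (y : G) := by
    intro v hv
    set v' : ↥(Subgroup.normalizer ((P : Subgroup G) : Set G)) := ⟨v, Subgroup.le_normalizer hv⟩ with hv'
    have hv'P : v' ∈ (P : Subgroup G).subgroupOf (Subgroup.normalizer ((P : Subgroup G) : Set G)) := by
      rw [Subgroup.mem_subgroupOf]; exact hv
    have hmem : (QuotientGroup.mk v' : ↥(Subgroup.normalizer ((P : Subgroup G) : Set G)) ⧸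
        Cfsg.pPrimeCore p ↥(Subgroup.normalizer ((P : Subgroup G) : Set G))) ∈ Vbar p (P : Subgroup G) :=
      ⟨v', hv'P, rfl⟩
    have hcomm := hx _ hmem
    -- the commutator lies in `K`
    have h1 : y * v' * y⁻¹ * v'⁻¹ ∈
        Cfsg.pPrimeCore p ↥(Subgroup.normalizer ((P : Subgroup G) : Set G)) := by
      rw [← QuotientGroup.eq_one_iff]
      rw [QuotientGroup.mk_mul, QuotientGroup.mk_mul, QuotientGroup.mk_mul, QuotientGroup.mk_inv,
        QuotientGroup.mk_inv, hcomm]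
      group
    -- and in `P`
    have h2 : y * v' * y⁻¹ * v'⁻¹ ∈
        (P : Subgroup G).subgroupOf (Subgroup.normalizer ((P : Subgroup G) : Set G)) := by
      rw [Subgroup.mem_subgroupOf]
      have hyn : (y : G) ∈ Subgroup.normalizer ((P : Subgroup G) : Set G) := y.2
      have h3 : (y : G) * v * (y : G)⁻¹ ∈ (P : Subgroup G) :=
        (Subgroup.mem_normalizer_iff.mp hyn v).mp hv
      have : ((y * v' * y⁻¹ * v'⁻¹ : ↥(Subgroup.normalizer ((P : Subgroup G) : Set G))) : G) =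
          (y : G) * v * (y : G)⁻¹ * v⁻¹ := by
        simp [hv']
      rw [this]
      exact (P : Subgroup G).mul_mem h3 ((P : Subgroup G).inv_mem hv)
    have h4 : y * v' * y⁻¹ * v'⁻¹ ∈
        ((P : Subgroup G).subgroupOf (Subgroup.normalizer ((P : Subgroup G) : Set G))) ⊓
        Cfsg.pPrimeCore p ↥(Subgroup.normalizer ((P : Subgroup G) : Set G)) := ⟨h2, h1⟩
    rw [hbot, Subgroup.mem_bot] at h4
    have h5 : y * v' = v' * y := by
      have := mul_inv_eq_one.mp h4
      exact mul_inv_eq_iff_eq_mul.mp this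
    have := congrArg Subtype.val h5
    simpa [hv'] using this
  obtain ⟨u, k, hu, hk, hyuk⟩ := cent_le P hab y hy
  refine ⟨u, ?_, ?_⟩
  · rw [SetLike.mem_coe, Subgroup.mem_subgroupOf]; exact hu
  · rw [hyuk, QuotientGroup.mk'_apply, QuotientGroup.mk_mul]
    have : (QuotientGroup.mk k : ↥(Subgroup.normalizer ((P : Subgroup G) : Set G)) ⧸
        Cfsg.pPrimeCore p ↥(Subgroup.normalizer ((P : Subgroup G) : Set G))) = 1 :=
      (QuotientGroup.eq_one_iff k).mpr hk
    rw [this, mul_one]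

end Cfsg.Agent.Lib.Helper25.HS
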