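import Mathlib
import Cfsg.Agent.Lib.Helper25.HS.PI_Vbar

/-!
# S4025 farm, leaf PI_VIndex: the image of `P` in `N/O_{p'}(N)` has index prime to `p`

RECIPE. `P` is a Sylow `p`-subgroup of `G`, so `p ∤ [G : P]`, hence `p ∤ [N : P.subgroupOf N]`
(`P ≤ N`; `Subgroup.relIndex`/`Subgroup.index_dvd_of_le`/`Sylow.not_dvd_index`).  The index of the
image `Vbar` in `N/K` equals `[N : P K]`, which divides `[N : P]`
(`Subgroup.index_map_of_surjective`/`Subgroup.index_map_dvd`).
-/

set_option autoImplicit false
open Cfsg

namespace Cfsg.Agent.Lib.Helper25.HS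

theorem Vbar_index {G : Type*} [Group G] [Finite G] {p : ℕ} [Fact p.Prime] (P : Sylow p G) :
    ((Vbar p (P : Subgroup G)).index).Coprime p := by
  have hp : p.Prime := Fact.out
  have h1 : ((Vbar p (P : Subgroup G)).index) ∣
      ((P : Subgroup G).subgroupOf (Subgroup.normalizer ((P : Subgroup G) : Set G))).index :=
    Subgroup.index_map_dvd _ (QuotientGroup.mk'_surjective _)
  have h2 : ((P : Subgroup G).subgroupOf (Subgroup.normalizer ((P : Subgroup G) : Set G))).index ∣
      (P : Subgroup G).index := by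
    have : ((P : Subgroup G).subgroupOf (Subgroup.normalizer ((P : Subgroup G) : Set G))).index
        = (P : Subgroup G).relIndex (Subgroup.normalizer ((P : Subgroup G) : Set G)) := rfl
    rw [this]
    exact Subgroup.relIndex_dvd_index_of_le Subgroup.le_normalizer
  have h3 : ¬ p ∣ (P : Subgroup G).index := P.not_dvd_index
  have h4 : ¬ p ∣ (Vbar p (P : Subgroup G)).index := fun h => h3 ((h.trans h1).trans h2)
  exact ((Nat.Prime.coprime_iff_not_dvd hp).2 h4).symm

end Cfsg.Agent.Lib.Helper25.HS
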