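import Mathlib
import Cfsg.Agent.Lib.Helper25.HS.PI_Vbar
import Cfsg.Agent.Lib.Helper25.HS.PI_Fusion
import Cfsg.Agent.Lib.Helper9.HSVTrans

/-!
# S4025 farm, leaf PI_VTrans: `N/O_{p'}(N)` permutes transitively the subgroups of `Vbar` of equal order

RECIPE. Let `π : N → N/K`, `PN = P.subgroupOf N`.  For `A ≤ Vbar` put
`A' = ((A.comap π) ⊓ PN).map N.subtype ≤ P`; as `π` is injective on `PN` (orders of `PN` and `K`
coprime) and `A ≤ π(PN)`, `π` maps `(A.comap π) ⊓ PN` bijectively onto `A`, so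
`Nat.card A' = Nat.card A`, and `A = (A'.subgroupOf N).map π`.  Same for `B`.  `A'`, `B'` are `p`-groups
of the same order, so `hC` gives `x : G` with `B' = x A' x⁻¹`; `fusion` gives `g ∈ N` with
`B' = g A' g⁻¹`.  Then `π g` conjugates `A` to `B`.
-/

set_option autoImplicit false
open Cfsg

namespace Cfsg.Agent.Lib.Helper25.HS

theorem Vbar_trans {G : Type*} [Group G] [Finite G] {p : ℕ} [Fact p.Prime]
    (hC : ∀ H K : Subgroup G, IsPGroup p H → IsPGroup p K → Nat.card H = Nat.card K →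
      ∃ g : G, K = H.map (MulAut.conj g).toMonoidHom)
    (P : Sylow p G)
    (hab : ∀ a ∈ (P : Subgroup G), ∀ b ∈ (P : Subgroup G), a * b = b * a)
    (A B : Subgroup (↥(Subgroup.normalizer ((P : Subgroup G) : Set G)) ⧸
      Cfsg.pPrimeCore p ↥(Subgroup.normalizer ((P : Subgroup G) : Set G))))
    (hA : A ≤ Vbar p (P : Subgroup G)) (hB : B ≤ Vbar p (P : Subgroup G))
    (hAB : Nat.card A = Nat.card B) :
    ∃ g : ↥(Subgroup.normalizer ((P : Subgroup G) : Set G)) ⧸
      Cfsg.pPrimeCore p ↥(Subgroup.normalizer ((P : Subgroup G) : Set G)),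
      B = A.map (MulAut.conj g).toMonoidHom := by
  exact Cfsg.Agent.Lib.Helper9.HSVTrans.Vbar_trans' hC P hab A B hA hB hAB

end Cfsg.Agent.Lib.Helper25.HS
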