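import Mathlib
import Cfsg.Agent.Lib.Helper25.HS.PI_VCard
import Cfsg.Agent.Lib.Helper25.HS.PI_VIndex
import Cfsg.Agent.Lib.Helper25.HS.PI_VCent
import Cfsg.Agent.Lib.Helper25.HS.PI_VTrans

/-!
# S4025 farm: assembly of Part I (architect's file, no leaf)
-/

set_option autoImplicit false
open Cfsg

namespace Cfsg.Agent.Lib.Helper25.HS

theorem partI {G : Type*} [Group G] [Finite G] {p : ℕ} [Fact p.Prime]
    (hC : ∀ H K : Subgroup G, IsPGroup p H → IsPGroup p K → Nat.card H = Nat.card K →
      ∃ g : G, K = H.map (MulAut.conj g).toMonoidHom)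
    (P : Sylow p G) (n : ℕ)
    (hel : Cfsg.IsElementaryAbelian p (P : Subgroup G)) (hcard : Nat.card P = p ^ n)
    (hsolv : Group.IsSolvable (↥(Subgroup.normalizer ((P : Subgroup G) : Set G)) ⧸
      Cfsg.pPrimeCore p ↥(Subgroup.normalizer ((P : Subgroup G) : Set G)))) :
    Setting p n (↥(Subgroup.normalizer ((P : Subgroup G) : Set G)) ⧸
      Cfsg.pPrimeCore p ↥(Subgroup.normalizer ((P : Subgroup G) : Set G)))
      (Vbar p (P : Subgroup G)) := by
  have hab : ∀ a ∈ (P : Subgroup G), ∀ b ∈ (P : Subgroup G), a * b = b * a := by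
    intro a ha b hb
    have h := hel.1.is_comm.comm ⟨a, ha⟩ ⟨b, hb⟩
    exact congrArg Subtype.val h
  have hexp : ∀ a ∈ (P : Subgroup G), a ^ p = 1 := hel.2
  have hnorm : ((P : Subgroup G).subgroupOf
      (Subgroup.normalizer ((P : Subgroup G) : Set G))).Normal :=
    Subgroup.normal_in_normalizer
  refine
    { fin := inferInstance
      normal := Subgroup.Normal.map hnorm _ (QuotientGroup.mk'_surjective _)
      comm := ?_
      exp := ?_
      card := (Vbar_card P).trans hcard
      cent := fun x hx => Vbar_cent P hab x hx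
      cop := Vbar_index P
      solv := hsolv
      trans := fun A B hA hB hAB => Vbar_trans hC P hab A B hA hB hAB }
  · rintro a ⟨a', ha', rfl⟩ b ⟨b', hb', rfl⟩
    have ha'' : (a' : G) ∈ (P : Subgroup G) := ha'
    have hb'' : (b' : G) ∈ (P : Subgroup G) := hb'
    have : a' * b' = b' * a' := Subtype.ext (hab _ ha'' _ hb'')
    simp only [QuotientGroup.mk'_apply, ← QuotientGroup.mk_mul, this]
  · rintro a ⟨a', ha', rfl⟩
    have ha'' : (a' : G) ∈ (P : Subgroup G) := ha'
    have : a' ^ p = 1 := Subtype.ext (by simpa using hexp _ ha'')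
    simp only [QuotientGroup.mk'_apply, ← QuotientGroup.mk_pow, this, QuotientGroup.mk_one]

end Cfsg.Agent.Lib.Helper25.HS
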