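import Mathlib
import Cfsg.Agent.Lib.Helper25.HS.Defs
import Cfsg.Agent.Lib.Helper25.HS.PII_Huppert
import Cfsg.Agent.Lib.Helper25.HS.PII_Galois
import Cfsg.Agent.Lib.Helper25.HS.PII_PlaneTrans
import Cfsg.Agent.Lib.Helper25.HS.PII_BridgeCount
import Cfsg.Agent.Lib.Helper25.HS.PII_PlanesDvd
import Cfsg.Agent.Lib.Helper25.HS.PII_CardGammaL1
import Cfsg.Agent.Lib.Helper25.HS.PII_CardAut
import Cfsg.Agent.Lib.Helper25.HS.PII_CountLines
import Cfsg.Agent.Lib.Helper25.HS.PII_CountPlanes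
import Cfsg.Agent.Lib.Helper25.HS.PII_OrbitDvd
import Cfsg.Agent.Lib.Helper25.HS.PII_IndexDvd
import Cfsg.Agent.Lib.Helper25.HS.PII_No81
import Cfsg.Agent.Lib.Helper25.HS.PII_Embed
import Cfsg.Agent.Lib.Helper25.HS.PII_Final23
import Cfsg.Agent.Lib.Helper25.HS.PII_Final25
import Cfsg.Agent.Lib.Helper25.HS.PII_ArithMain
import Cfsg.Agent.Lib.Helper25.HS.PII_ArithExc

/-!
# S4025 farm: assembly of Part II (architect's file, no leaf)
-/

set_option autoImplicit false

namespace Cfsg.Agent.Lib.Helper25.HS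

theorem partII {p n : ℕ} [Fact p.Prime] {Q : Type*} [Group Q] {V : Subgroup Q}
    (hS : Setting p n Q V) (hn : 3 ≤ n) :
    (n = 3 ∧ (∃ f : Q →* ↥(Cfsg.semiaffineGroup (GaloisField p 3)), Function.Injective f) ∧
      (p = 2 → Nonempty (Q ≃* ↥(Cfsg.semiaffineGroup (GaloisField 2 3))) ∨
               Nonempty (Q ≃* ↥(Cfsg.affineGroup (GaloisField 2 3))))) ∨
    (n = 5 ∧ p = 2 ∧ Nonempty (Q ≃* ↥(Cfsg.semiaffineGroup (GaloisField 2 5)))) := by
  classical
  have hp : p.Prime := Fact.out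
  haveI := hS.normal
  haveI := hS.fin
  have hcardQ : Nat.card Q = p ^ n * V.index := by rw [← hS.card, Subgroup.card_mul_index]
  have hp2 : 2 ≤ p := hp.two_le
  have hpn : p ^ 1 < p ^ n := Nat.pow_lt_pow_right hp.one_lt (by omega)
  rw [pow_one] at hpn
  have hlines := count_lines hS
  have hplanes := count_planes hS
  have hR1 : 0 < p ^ n - 1 := by omega
  have hR2 : 0 < (p ^ n - 1) * (p ^ n - p) := Nat.mul_pos (by omega) (by omega)
  have hL1pos : 0 < Nat.card {A : Subgroup Q // A ≤ V ∧ Nat.card A = p} := by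
    rcases Nat.eq_zero_or_pos (Nat.card {A : Subgroup Q // A ≤ V ∧ Nat.card A = p}) with h | h
    · rw [h, zero_mul] at hlines
      exact absurd hlines (Nat.ne_of_lt hR1)
    · exact h
  have hL2pos : 0 < Nat.card {A : Subgroup Q // A ≤ V ∧ Nat.card A = p ^ 2} := by
    rcases Nat.eq_zero_or_pos (Nat.card {A : Subgroup Q // A ≤ V ∧ Nat.card A = p ^ 2}) with h | h
    · rw [h, zero_mul] at hplanes
      exact absurd hplanes (Nat.ne_of_lt hR2)
    · exact h
  have hne1 : ∃ A : Subgroup Q, A ≤ V ∧ Nat.card A = p := by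
    obtain ⟨⟨A, hA⟩⟩ := (Nat.card_pos_iff.mp hL1pos).1
    exact ⟨A, hA⟩
  have hne2 : ∃ A : Subgroup Q, A ≤ V ∧ Nat.card A = p ^ 2 := by
    obtain ⟨⟨A, hA⟩⟩ := (Nat.card_pos_iff.mp hL2pos).1
    exact ⟨A, hA⟩
  have hd1 := orbit_dvd hS p hne1
  have hd2 := orbit_dvd hS (p ^ 2) hne2
  rcases huppert_bridge hS (by omega) with ⟨F, _, _, e, he⟩ | hexc
  swap
  · exfalso
    rw [hS.card] at hexc
    obtain ⟨rfl, rfl⟩ := arith_exc p n hp hn hexc
    have h40 : Nat.card {A : Subgroup Q // A ≤ V ∧ Nat.card A = 3} = 40 := by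
      norm_num at hlines
      omega
    have h130 : Nat.card {A : Subgroup Q // A ≤ V ∧ Nat.card A = 3 ^ 2} = 130 := by
      norm_num at hplanes ⊢
      omega
    have h5 : 5 ∣ Nat.card Q := dvd_trans (by rw [h40]; norm_num) hd1
    have h13 : 13 ∣ Nat.card Q := dvd_trans (by rw [h130]; norm_num) hd2
    have hidx := index_dvd hS
    have hprod : ∏ i ∈ Finset.range 4, (3 ^ 4 - 3 ^ i) = 24261120 := by
      simp [Finset.prod_range_succ]
    rw [hprod] at hidx
    exact no81 hS h5 h13 hidx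
  · obtain ⟨e', he'⟩ := bridge_galois hS (by omega) e he
    have hn0 : n ≠ 0 := by omega
    have hcF : Nat.card (GaloisField p n) = p ^ n := GaloisField.card p n hn0
    have hLF := bridge_count e' he' (p ^ 2)
    have hneF : ∃ A : AddSubgroup (GaloisField p n), Nat.card A = p ^ 2 := by
      rw [hLF] at hL2pos
      obtain ⟨⟨A, hA⟩⟩ := (Nat.card_pos_iff.mp hL2pos).1
      exact ⟨A, hA⟩
    have hdvd := planes_dvd (p := p) (F := GaloisField p n) 2 hneF
      (fun A B hA hB => gammaL1_trans hS (by omega) e' he' A B (hA.trans hB.symm))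
    rw [card_gammaL1, hcF, card_aut_galois p n hn0, ← hLF, mul_comm (p ^ n - 1) n] at hdvd
    rcases arith_main p n _ hp hn hplanes hdvd with h3 | ⟨h5, h2⟩
    · left
      subst h3
      obtain ⟨f, hf⟩ := embed hS (by omega) e' he'
      refine ⟨rfl, ⟨f, hf⟩, ?_⟩
      intro hp2'
      subst hp2'
      have h7 : 7 ∣ Nat.card Q := by
        have : Nat.card {A : Subgroup Q // A ≤ V ∧ Nat.card A = 2} = 7 := by
          norm_num at hlines
          omega
        rw [this] at hd1
        exact hd1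
      exact final23 f hf V.index (by rw [hcardQ]; norm_num) h7
    · right
      subst h5
      subst h2
      obtain ⟨f, hf⟩ := embed hS (by omega) e' he'
      refine ⟨rfl, rfl, ?_⟩
      have h155 : 155 ∣ Nat.card Q := by
        have : Nat.card {A : Subgroup Q // A ≤ V ∧ Nat.card A = 2 ^ 2} = 155 := by
          norm_num at hplanes ⊢
          omega
        rw [this] at hd2
        exact hd2
      exact final25 f hf V.index (by rw [hcardQ]; norm_num) h155

end Cfsg.Agent.Lib.Helper25.HS
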